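import Cfsg.Agent.Lib.Helper20.CharBasic
import Cfsg.Agent.Lib.Helper81.LocalRing

set_option autoImplicit false
open Cfsg
open scoped ComplexConjugate
open Cfsg.Agent.Lib.Helper81

namespace Cfsg.Agent.Lib.Helper20

variable {p : ℕ} {M : Ideal AlgInt} {G : Type*} [Group G] [Finite G]

/-- `χ(xy) ≡ χ(y)` modulo the local ideal, for a `p`-element `x` commuting with the `p`-regular
element `y`. -/
theorem isCharacter_mul_sub_memLocalIdeal (hM : IsPModular p M) {χ : G → ℂ}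
    (hχ : IsCharacter G χ) {x y : G} (hc : Commute x y) {k : ℕ} (hx : x ^ (p ^ k) = 1)
    (hy : ¬ p ∣ orderOf y) : MemLocalIdeal M (χ (x * y) - χ y) := by
  obtain ⟨m, ρ, rfl⟩ := hχ
  set n := orderOf y with hn
  have hn0 : 0 < n := orderOf_pos y
  have hcop : Nat.Coprime (p ^ k) n :=
    Nat.Coprime.pow_left _ ((Nat.Prime.coprime_iff_not_dvd hM.1).2 hy)
  obtain ⟨j0, hj1, hj2⟩ := Nat.chineseRemainder hcop 0 1
  set j := j0 + p ^ k * n with hj
  have hjpos : 1 ≤ j := by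
    have : 0 < p ^ k * n := Nat.mul_pos (pow_pos hM.1.pos _) hn0
    omega
  have hj1' : p ^ k ∣ j := by
    have h1 : p ^ k ∣ j0 := (Nat.modEq_zero_iff_dvd).1 hj1
    exact Dvd.dvd.add h1 (Dvd.intro _ rfl)
  have hj2' : j ≡ 1 [MOD n] := by
    have h1 : j0 + p ^ k * n ≡ j0 + 0 [MOD n] :=
      Nat.ModEq.add_left _ ((Nat.modEq_zero_iff_dvd).2 (Dvd.intro_left _ rfl))
    exact h1.trans hj2
  have hdvd : n ∣ j - 1 := (Nat.modEq_iff_dvd' hjpos).1 hj2'.symm
  have hxj : x ^ j = 1 := by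
    obtain ⟨t, ht⟩ := hj1'
    rw [ht, pow_mul, hx, one_pow]
  have hyj : y ^ j = y := by
    have := (pow_eq_pow_iff_modEq (x := y) (n := j) (m := 1)).2 hj2'
    rwa [pow_one] at this
  have hgj : (x * y) ^ j = y := by rw [hc.mul_pow, hxj, hyj, one_mul]
  have hgN : (x * y) ^ (p ^ k * n) = 1 := by
    rw [hc.mul_pow, pow_mul, hx, one_pow, one_mul, mul_comm, pow_mul, hn, pow_orderOf_eq_one,
      one_pow]
  obtain ⟨s, d, h1, -, h3⟩ := char_pow_eq_sum ρ (x * y)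
  have e1 := h3 1
  rw [pow_one] at e1
  have e2 := h3 j
  rw [hgj] at e2
  rw [e1, e2, ← Finset.sum_sub_distrib]
  apply memLocalIdeal_sum hM
  intro μ hμ
  have hμN : μ ^ (p ^ k * n) = 1 := by
    obtain ⟨t, ht⟩ := orderOf_dvd_of_pow_eq_one hgN
    rw [ht, pow_mul, h1 μ hμ, one_pow]
  have hμint : IsIntegral ℤ μ :=
    IsIntegral.of_pow (orderOf_pos (x * y)) (by rw [h1 μ hμ]; exact isIntegral_one)
  have h4 : (μ ^ (j - 1)) ^ (p ^ k) = 1 := by
    obtain ⟨t, ht⟩ := hdvd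
    rw [ht, ← pow_mul, mul_comm n t, mul_assoc, mul_comm n, mul_comm t, pow_mul, hμN, one_pow]
  have h5 := memLocalIdeal_sub_one_of_pow_eq_one hM h4
  have h6 : (d μ : ℂ) * μ ^ 1 - (d μ : ℂ) * μ ^ j = -((d μ : ℂ) * μ * (μ ^ (j - 1) - 1)) := by
    have : μ ^ j = μ * μ ^ (j - 1) := by
      rw [← pow_succ', Nat.sub_add_cancel hjpos]
    rw [this]; ring
  rw [h6]
  apply memLocalIdeal_neg
  exact memLocalIdeal_mul_left hM (memLocalRing_mul hM (memLocalRing_natCast hM _)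
    (memLocalRing_of_isIntegral hM hμint)) h5

end Cfsg.Agent.Lib.Helper20
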