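import Cfsg.Agent.Lib.Helper20.BrauerMap
import Cfsg.Agent.Lib.Helper19.IndChar
import Cfsg.Agent.Lib.Helper19.GramRigid
import Cfsg.Agent.Lib.Helper44.Cosets

set_option autoImplicit false

/-!
# Abstract Fong–Reynolds correspondence

`T ≤ G`, `E : G → ℂ` a `T`-invariant idempotent of the group algebra supported on `T`, with
`E^x * E = 0` for `x ∉ T`.  Then induction is a bijection from the irreducible characters of `T`
"over `E`" onto those of `G` over `E`, compatible with blocks.
-/

namespace Cfsg.Agent.Lib.Helper20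

open Cfsg Cfsg.Agent.Lib.Helper81 Cfsg.Agent.Lib.Helper19
open scoped ComplexConjugate

variable {G : Type*} [Group G] [Fintype G]

/-- translation of an irreducible character by a central element of the group algebra. -/
theorem sum_mul_char_mul {χ : G → ℂ} (hχ : IsIrrCharacter G χ) {w : G → ℂ}
    (hw : IsClassFunction G w) (s : G) :
    ∑ t : G, w t * χ (s * t) = omega χ w * χ s := by
  have hG : (Nat.card G : ℂ) ≠ 0 := card_ne_zero_complex
  have h1 : ∀ u : G, ∑ t : G, w t * χ (s * t) = ∑ t : G, w t * χ (s * (u * t * u⁻¹)) := by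
    intro u
    rw [← Equiv.sum_comp (MulAut.conj u).toEquiv (fun t => w t * χ (s * t))]
    apply Finset.sum_congr rfl
    intro t _
    show w (u * t * u⁻¹) * _ = _
    rw [hw]
    rfl
  have h2 : (Nat.card G : ℂ) * ∑ t : G, w t * χ (s * t)
      = ∑ u : G, ∑ t : G, w t * χ (s * (u * t * u⁻¹)) := by
    rw [← Finset.sum_congr rfl (fun u _ => h1 u), Finset.sum_const, Finset.card_univ,
      nsmul_eq_mul, Nat.card_eq_fintype_card]
  rw [Finset.sum_comm] at h2
  have h3 : ∀ t : G, ∑ u : G, w t * χ (s * (u * t * u⁻¹))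
      = (Nat.card G : ℂ) * (w t * χ t / χ 1 * χ s) := by
    intro t
    rw [← Finset.mul_sum, sum_char_conj_mul hχ]
    ring
  rw [Finset.sum_congr rfl (fun t _ => h3 t), ← Finset.mul_sum] at h2
  have h4 := mul_left_cancel₀ hG h2
  rw [h4, omega, Finset.sum_mul]

/-- The data of the abstract correspondence. -/
structure FRData (T : Subgroup G) (E : G → ℂ) : Prop where
  supp : ∀ g, g ∉ T → E g = 0
  inv : ∀ t ∈ T, ∀ g, E (t * g * t⁻¹) = E g
  idem : conv E E = E
  orth : ∀ x, x ∉ T → conv (fun s => E (x * s * x⁻¹)) E = 0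
  star : ∀ g, E g⁻¹ = conj (E g)

variable {T : Subgroup G} [Fintype T] {E : G → ℂ}

omit [Fintype T] in
theorem FRData.res_classFunction (h : FRData T E) : IsClassFunction T (fun t : T => E t) := by
  intro g t
  exact h.inv t t.2 g

theorem FRData.res_idem (h : FRData T E) :
    conv (fun t : T => E t) (fun t : T => E t) = fun t : T => E t := by
  funext k
  have h1 := congrFun h.idem (k : G)
  simp only [conv] at h1 ⊢
  rw [← h1]
  exact sum_subgroup_eq T (fun g => E g * E (g⁻¹ * k)) (fun g hg => by rw [h.supp g hg, zero_mul])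

theorem FRData.omega_eq (h : FRData T E) {ψ : T → ℂ} (hψ : IsIrrCharacter T ψ) :
    omega ψ (fun t : T => E t) = 0 ∨ omega ψ (fun t : T => E t) = 1 := by
  have h1 := omega_conv hψ (fun t : T => E t) (fun t : T => E t) h.res_classFunction
  rw [h.res_idem] at h1
  by_cases h0 : omega ψ (fun t : T => E t) = 0
  · exact Or.inl h0
  · right
    exact (mul_left_cancel₀ h0 (by rw [mul_one]; exact h1)).symm

omit [Fintype G] [Fintype T] in
theorem extendByZero_conj_mem {ψ : T → ℂ} (hψ : IsClassFunction T ψ) {x : G} (hx : x ∈ T) (g : G) :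
    extendByZero T ψ (x⁻¹ * g * x) = extendByZero T ψ g := by
  by_cases hg : g ∈ T
  · have h1 : x⁻¹ * g * x ∈ T := T.mul_mem (T.mul_mem (T.inv_mem hx) hg) hx
    rw [extendByZero_of_mem T ψ hg, extendByZero_of_mem T ψ h1]
    have := hψ ⟨g, hg⟩ ⟨x, hx⟩⁻¹
    rw [← this]
    congr 1
    ext
    simp
  · have h1 : x⁻¹ * g * x ∉ T := by
      intro h2
      apply hg
      have := T.mul_mem (T.mul_mem hx h2) (T.inv_mem hx)
      simpa [mul_assoc] using this
    rw [extendByZero_of_not_mem T ψ hg, extendByZero_of_not_mem T ψ h1]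

/-- a character over `E` is fixed by `E`. -/
theorem FRData.fix (h : FRData T E) {ψ : T → ℂ} (hψ : IsIrrCharacter T ψ)
    (hov : omega ψ (fun t : T => E t) = 1) (a : G) :
    ∑ s : G, E s * extendByZero T ψ (a * s) = extendByZero T ψ a := by
  rw [← sum_subgroup_eq T (fun s => E s * extendByZero T ψ (a * s))
    (fun g hg => by rw [h.supp g hg, zero_mul])]
  by_cases ha : a ∈ T
  · have h1 := sum_mul_char_mul hψ h.res_classFunction ⟨a, ha⟩
    rw [hov, one_mul] at h1
    rw [extendByZero_of_mem T ψ ha, ← h1]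
    apply Finset.sum_congr rfl
    intro s _
    rw [extendByZero_of_mem T ψ (T.mul_mem ha s.2)]
    rfl
  · rw [extendByZero_of_not_mem T ψ ha]
    apply Finset.sum_eq_zero
    intro s _
    rw [extendByZero_of_not_mem T ψ, mul_zero]
    intro h2
    exact ha ((T.mul_mem_cancel_right s.2).1 h2)

theorem FRData.sum_eq_zero_of_not_mem (h : FRData T E) {ψ : T → ℂ} (hψ : IsIrrCharacter T ψ)
    (hov : omega ψ (fun t : T => E t) = 1) (a : G) {x : G} (hx : x ∉ T) :
    ∑ s : G, E s * extendByZero T ψ (x⁻¹ * (a * s) * x) = 0 := by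
  have h1 : ∀ s : G, E s * extendByZero T ψ (x⁻¹ * (a * s) * x)
      = ∑ u : G, E s * (E u * extendByZero T ψ (x⁻¹ * (a * s) * x * u)) := by
    intro s
    rw [← Finset.mul_sum, h.fix hψ hov]
  rw [Finset.sum_congr rfl (fun s _ => h1 s)]
  rw [← Equiv.sum_comp (MulAut.conj x).toEquiv]
  have h2 : ∀ s : G, ∑ u : G, E ((MulAut.conj x).toEquiv s)
        * (E u * extendByZero T ψ (x⁻¹ * (a * (MulAut.conj x).toEquiv s) * x * u))
      = ∑ v : G, E (x * s * x⁻¹) * E (s⁻¹ * v) * extendByZero T ψ (x⁻¹ * a * x * v) := by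
    intro s
    rw [← Equiv.sum_comp (Equiv.mulLeft s⁻¹)]
    apply Finset.sum_congr rfl
    intro v _
    show E (x * s * x⁻¹) * (E (s⁻¹ * v) * extendByZero T ψ (x⁻¹ * (a * (x * s * x⁻¹)) * x * (s⁻¹ * v)))
      = _
    have e1 : x⁻¹ * (a * (x * s * x⁻¹)) * x * (s⁻¹ * v) = x⁻¹ * a * x * v := by group
    rw [e1]
    ring
  rw [Finset.sum_congr rfl (fun s _ => h2 s), Finset.sum_comm]
  apply Finset.sum_eq_zero
  intro v _
  rw [← Finset.sum_mul]
  have h3 := congrFun (h.orth x hx) v
  simp only [conv] at h3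
  rw [h3]
  simp

/-- KEY: `(ψ^G) * E = ψ` (extended by zero). -/
theorem FRData.sum_indFun (h : FRData T E) {ψ : T → ℂ} (hψ : IsIrrCharacter T ψ)
    (hov : omega ψ (fun t : T => E t) = 1) (a : G) :
    ∑ s : G, E s * indFun T ψ (a * s) = extendByZero T ψ a := by
  classical
  have hT : (Nat.card T : ℂ) ≠ 0 := Cfsg.Agent.Lib.Helper19.card_ne_zero_complex T
  have hcl := isClassFunction_of_isCharacter (isCharacter_of_isIrrCharacter hψ)
  simp only [indFun_apply]
  have h1 : ∀ s : G, E s * ((Nat.card T : ℂ)⁻¹ * ∑ x : G, extendByZero T ψ (x⁻¹ * (a * s) * x))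
      = (Nat.card T : ℂ)⁻¹ * ∑ x : G, E s * extendByZero T ψ (x⁻¹ * (a * s) * x) := by
    intro s
    rw [Finset.mul_sum, Finset.mul_sum, Finset.mul_sum]
    apply Finset.sum_congr rfl
    intro x _
    ring
  rw [Finset.sum_congr rfl (fun s _ => h1 s), ← Finset.mul_sum, Finset.sum_comm]
  have h2 : ∀ x : G, ∑ s : G, E s * extendByZero T ψ (x⁻¹ * (a * s) * x)
      = if x ∈ T then extendByZero T ψ a else 0 := by
    intro x
    split_ifs with hx
    · rw [← h.fix hψ hov a]
      apply Finset.sum_congr rfl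
      intro s _
      rw [extendByZero_conj_mem hcl hx]
    · exact h.sum_eq_zero_of_not_mem hψ hov a hx
  rw [Finset.sum_congr rfl (fun x _ => h2 x),
    ← sum_subgroup_eq T (fun x => if x ∈ T then extendByZero T ψ a else 0)
      (fun g hg => if_neg hg)]
  have h3 : ∀ x : T, (if (x : G) ∈ T then extendByZero T ψ a else 0) = extendByZero T ψ a :=
    fun x => if_pos x.2
  rw [Finset.sum_congr rfl (fun x _ => h3 x), Finset.sum_const, Finset.card_univ, nsmul_eq_mul,
    ← Nat.card_eq_fintype_card, ← mul_assoc, inv_mul_cancel₀ hT, one_mul]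

theorem sum_indFun_mul (T : Subgroup G) [Fintype T] (u : T → ℂ) {χ : G → ℂ}
    (hχ : IsClassFunction G χ) :
    ∑ g : G, indFun T u g * χ g = (T.index : ℂ) * ∑ t : T, u t * χ t := by
  have hG : (Nat.card G : ℂ) ≠ 0 := card_ne_zero_complex
  have hc : IsClassFunction G (fun g => conj (χ g)) := fun g x => by
    show conj (χ _) = conj (χ _)
    rw [hχ]
  have h1 := frobenius_reciprocity T u (fun g => conj (χ g)) hc
  simp only [classInner, Complex.conj_conj] at h1
  rw [index_eq_div, mul_assoc, mul_comm (Nat.card G : ℂ), ← mul_assoc, ← h1]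
  field_simp

theorem FRData.classInner_indFun (h : FRData T E) {ψ μ : T → ℂ} (hψ : IsIrrCharacter T ψ)
    (hov : omega ψ (fun t : T => E t) = 1) (hμ : IsIrrCharacter T μ)
    (hov' : omega μ (fun t : T => E t) = 1) :
    classInner (indFun T ψ) (indFun T μ) = classInner ψ μ := by
  rw [frobenius_reciprocity T ψ _ (indFun_isClassFunction T μ)]
  simp only [classInner]
  congr 1
  rw [← sum_extendByZero_mul T ψ (fun g => conj (indFun T μ g))]
  have h1 : ∀ g : G, extendByZero T ψ g * conj (indFun T μ g)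
      = ∑ s : G, E s * extendByZero T ψ (g * s) * conj (indFun T μ g) := by
    intro g
    rw [← Finset.sum_mul, h.fix hψ hov]
  rw [Finset.sum_congr rfl (fun g _ => h1 g), Finset.sum_comm]
  have h2 : ∀ s : G, ∑ g : G, E s * extendByZero T ψ (g * s) * conj (indFun T μ g)
      = ∑ g : G, extendByZero T ψ g * conj (E s⁻¹ * indFun T μ (g * s⁻¹)) := by
    intro s
    rw [← Equiv.sum_comp (Equiv.mulRight s)
      (fun g => extendByZero T ψ g * conj (E s⁻¹ * indFun T μ (g * s⁻¹)))]
    apply Finset.sum_congr rfl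
    intro g _
    show _ = extendByZero T ψ (g * s) * conj (E s⁻¹ * indFun T μ (g * s * s⁻¹))
    rw [mul_inv_cancel_right, map_mul, h.star, Complex.conj_conj]
    ring
  rw [Finset.sum_congr rfl (fun s _ => h2 s), Finset.sum_comm]
  have h3 : ∀ g : G, ∑ s : G, extendByZero T ψ g * conj (E s⁻¹ * indFun T μ (g * s⁻¹))
      = extendByZero T ψ g * conj (extendByZero T μ g) := by
    intro g
    rw [← Finset.mul_sum, ← map_sum, ← h.sum_indFun hμ hov' g]
    congr 2
    exact Equiv.sum_comp (Equiv.inv G) (fun s => E s * indFun T μ (g * s))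
  rw [Finset.sum_congr rfl (fun g _ => h3 g),
    sum_extendByZero_mul T ψ (fun g => conj (extendByZero T μ g))]
  apply Finset.sum_congr rfl
  intro t _
  rw [extendByZero_coe]

theorem FRData.isIrrCharacter_indFun (h : FRData T E) {ψ : T → ℂ} (hψ : IsIrrCharacter T ψ)
    (hov : omega ψ (fun t : T => E t) = 1) : IsIrrCharacter G (indFun T ψ) := by
  apply isIrrCharacter_of_classInner_self
    (isCharacter_indFun T ψ (isCharacter_of_isIrrCharacter hψ))
  rw [h.classInner_indFun hψ hov hψ hov, classInner_irr_self hψ]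

theorem index_ne_zero_complex (T : Subgroup G) : (T.index : ℂ) ≠ 0 := by
  have : T.index ≠ 0 := Subgroup.index_ne_zero_of_finite
  exact_mod_cast this

/-- the restriction to `T` of the sum in `sum_indFun`. -/
theorem FRData.sum_res_indFun (h : FRData T E) {ψ : T → ℂ} (hψ : IsIrrCharacter T ψ)
    (hov : omega ψ (fun t : T => E t) = 1) (r : T) :
    ∑ s : T, E s * indFun T ψ (r * s) = ψ r := by
  rw [sum_subgroup_eq T (fun s => E s * indFun T ψ (r * s))
    (fun g hg => by rw [h.supp g hg, zero_mul]), h.sum_indFun hψ hov, extendByZero_coe]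

/-- KEY IDENTITY: `ω_{ψ^G}(Tr_T^G(w E)) = ω_ψ(w)`. -/
theorem FRData.omega_indFun (h : FRData T E) {ψ : T → ℂ} (hψ : IsIrrCharacter T ψ)
    (hov : omega ψ (fun t : T => E t) = 1) (w : T → ℂ) :
    omega (indFun T ψ) (indFun T (conv w (fun t : T => E t))) = omega ψ w := by
  have hi := index_ne_zero_complex T
  have h10 := Cfsg.Agent.Lib.Helper81.irr_one_ne_zero hψ
  rw [omega, ← Finset.sum_div, sum_indFun_mul T _ (indFun_isClassFunction T ψ), indFun_apply_one,
    omega, ← Finset.sum_div, mul_div_mul_left _ _ hi]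
  congr 1
  simp only [conv, Finset.sum_mul]
  rw [Finset.sum_comm]
  apply Finset.sum_congr rfl
  intro r _
  rw [← h.sum_res_indFun hψ hov r, Finset.mul_sum,
    ← Equiv.sum_comp (Equiv.mulLeft r⁻¹) (fun s : T => w r * (E s * indFun T ψ (r * s)))]
  apply Finset.sum_congr rfl
  intro t _
  show _ = w r * (E ((r⁻¹ * t : T) : G) * indFun T ψ (r * ((r⁻¹ * t : T) : G)))
  have e1 : (r : G) * ((r⁻¹ * t : T) : G) = t := by simp
  rw [e1]
  ring

variable {p : ℕ} {M : Ideal AlgInt}

theorem indFun_memLocalRing (hM : IsPModular p M) {u : T → ℂ} (hu : IsClassFunction T u)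
    (huR : ∀ t, MemLocalRing M (u t)) (g : G) : MemLocalRing M (indFun T u g) := by
  classical
  haveI : Fintype (G ⧸ T) := Fintype.ofFinite _
  have hr : ∀ x : G, ∃! q : G ⧸ T, (q.out)⁻¹ * x ∈ T := by
    intro x
    refine ⟨(x : G ⧸ T), ?_, ?_⟩
    · exact QuotientGroup.eq.mp (QuotientGroup.out_eq' _)
    · intro q hq
      rw [← QuotientGroup.out_eq' q]
      exact QuotientGroup.eq.mpr hq
  have hθ : ∀ h k : T, u (h⁻¹ * k * h) = u k := by
    intro h k
    have := hu k h⁻¹
    rwa [inv_inv] at this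
  rw [Cfsg.Agent.Lib.Helper44.indFun_eq_of_transversal T (fun q : G ⧸ T => q.out) hr u hθ g]
  apply memLocalRing_sum hM
  intro q _
  by_cases hm : (q.out)⁻¹ * g * q.out ∈ T
  · rw [extendByZero_of_mem T u hm]; exact huR _
  · rw [extendByZero_of_not_mem T u hm]; exact memLocalRing_zero hM

theorem FRData.sameBlock_of_indFun (h : FRData T E) (hM : IsPModular p M)
    (hER : ∀ g, MemLocalRing M (E g)) {ψ₁ ψ₂ : T → ℂ} (hψ₁ : IsIrrCharacter T ψ₁)
    (hov₁ : omega ψ₁ (fun t : T => E t) = 1) (hψ₂ : IsIrrCharacter T ψ₂)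
    (hov₂ : omega ψ₂ (fun t : T => E t) = 1)
    (hs : SameBlock M (indFun T ψ₁) (indFun T ψ₂)) : SameBlock M ψ₁ ψ₂ := by
  intro t₀
  have c1 := isClassFunction_of_isCharacter (isCharacter_of_isIrrCharacter hψ₁)
  have c2 := isClassFunction_of_isCharacter (isCharacter_of_isIrrCharacter hψ₂)
  rw [← omega_classInd c1, ← omega_classInd c2, ← h.omega_indFun hψ₁ hov₁,
    ← h.omega_indFun hψ₂ hov₂]
  exact omega_sub_memLocalIdeal hM (χ := ⟨_, h.isIrrCharacter_indFun hψ₁ hov₁⟩)
    (ψ := ⟨_, h.isIrrCharacter_indFun hψ₂ hov₂⟩) hs (indFun_isClassFunction T _)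
    (indFun_memLocalRing hM (conv_classFunction (classInd_classFunction t₀) h.res_classFunction)
      (conv_memLocalRing hM (classInd_memLocalRing hM t₀) (fun t => hER t)))

theorem FRData.over_of_sameBlock (h : FRData T E) (hM : IsPModular p M)
    (hER : ∀ g, MemLocalRing M (E g)) {ψ₁ ψ₂ : T → ℂ} (hψ₁ : IsIrrCharacter T ψ₁)
    (hov₁ : omega ψ₁ (fun t : T => E t) = 1) (hψ₂ : IsIrrCharacter T ψ₂)
    (hs : SameBlock M ψ₁ ψ₂) : omega ψ₂ (fun t : T => E t) = 1 := by
  rcases h.omega_eq hψ₂ with h0 | h1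
  · exfalso
    have := omega_sub_memLocalIdeal hM (χ := ⟨ψ₁, hψ₁⟩) (ψ := ⟨ψ₂, hψ₂⟩) hs h.res_classFunction
      (fun t => hER t)
    simp only [hov₁, h0, sub_zero] at this
    exact not_memLocalIdeal_one hM this
  · exact h1

theorem FRData.exists_of_sum_ne_zero (h : FRData T E) {χ : G → ℂ} (hχ : IsIrrCharacter G χ)
    (hne : ∑ t : T, E t * χ t ≠ 0) :
    ∃ μ : IrrCharacter T, omega (μ : T → ℂ) (fun t : T => E t) = 1 ∧ χ = indFun T (μ : T → ℂ) := by
  classical
  haveI : Finite (IrrCharacter T) := finite_irrCharacter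
  haveI : Fintype (IrrCharacter T) := Fintype.ofFinite _
  have hcl := isClassFunction_of_isCharacter (isCharacter_of_isIrrCharacter hχ)
  have hres : IsClassFunction T (fun t : T => χ t) := fun g x => hcl g x
  have h1 := eq_sum_classInner_smul hres
  have h2 : ∑ t : T, E t * χ t = ∑ μ : IrrCharacter T,
      classInner (fun t : T => χ t) (μ : T → ℂ) * ((μ : T → ℂ) 1 *
        omega (μ : T → ℂ) (fun t : T => E t)) := by
    have h3 : ∀ t : T, E t * χ t = ∑ μ : IrrCharacter T,
        classInner (fun t : T => χ t) (μ : T → ℂ) * (E t * (μ : T → ℂ) t) := by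
      intro t
      have := congrFun h1 t
      simp only [Finset.sum_apply, Pi.smul_apply, smul_eq_mul] at this
      rw [this, Finset.mul_sum]
      apply Finset.sum_congr rfl
      intro μ _
      ring
    rw [Finset.sum_congr rfl (fun t _ => h3 t), Finset.sum_comm]
    apply Finset.sum_congr rfl
    intro μ _
    rw [← Finset.mul_sum, omega, ← Finset.sum_div,
      mul_div_cancel₀ _ (Cfsg.Agent.Lib.Helper81.irr_one_ne_zero μ.2)]
  rw [h2] at hne
  obtain ⟨μ, -, hμ⟩ := Finset.exists_ne_zero_of_sum_ne_zero hne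
  have hμ1 : classInner (fun t : T => χ t) (μ : T → ℂ) ≠ 0 := left_ne_zero_of_mul hμ
  have hμ2 : omega (μ : T → ℂ) (fun t : T => E t) ≠ 0 :=
    right_ne_zero_of_mul (right_ne_zero_of_mul hμ)
  have hov : omega (μ : T → ℂ) (fun t : T => E t) = 1 := (h.omega_eq μ.2).resolve_left hμ2
  refine ⟨μ, hov, ?_⟩
  by_contra hne'
  have h4 := classInner_irr_ne (h.isIrrCharacter_indFun μ.2 hov) hχ (fun e => hne' e.symm)
  rw [frobenius_reciprocity T _ χ hcl, ← classInner_conj_symm] at h4
  exact hμ1 ((map_eq_zero _).1 h4)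

theorem FRData.sum_ne_zero_of_sameBlock (h : FRData T E) (hM : IsPModular p M)
    (hER : ∀ g, MemLocalRing M (E g)) {ψ : T → ℂ} (hψ : IsIrrCharacter T ψ)
    (hov : omega ψ (fun t : T => E t) = 1) {χ : G → ℂ} (hχ : IsIrrCharacter G χ)
    (hs : SameBlock M (indFun T ψ) χ) : ∑ t : T, E t * χ t ≠ 0 := by
  intro h0
  have hi := index_ne_zero_complex T
  have h10 := Cfsg.Agent.Lib.Helper81.irr_one_ne_zero hψ
  have hcl := isClassFunction_of_isCharacter (isCharacter_of_isIrrCharacter hχ)
  have h1 := omega_sub_memLocalIdeal hM (χ := ⟨_, h.isIrrCharacter_indFun hψ hov⟩)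
    (ψ := ⟨χ, hχ⟩) hs (indFun_isClassFunction T (fun t : T => E t))
    (indFun_memLocalRing hM h.res_classFunction (fun t => hER t))
  have h2 : omega χ (indFun T (fun t : T => E t)) = 0 := by
    rw [omega, ← Finset.sum_div, sum_indFun_mul T _ hcl, h0, mul_zero, zero_div]
  have h3 : omega (indFun T ψ) (indFun T (fun t : T => E t)) = 1 := by
    rw [omega, ← Finset.sum_div, sum_indFun_mul T _ (indFun_isClassFunction T ψ), indFun_apply_one]
    have h4 := h.sum_res_indFun hψ hov 1
    simp only [Subgroup.coe_one, one_mul] at h4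
    rw [h4]
    exact div_self (mul_ne_zero hi h10)
  simp only [h2, h3, sub_zero] at h1
  exact not_memLocalIdeal_one hM h1

end Cfsg.Agent.Lib.Helper20
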