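import Cfsg.Agent.Lib.Helper20.FongReynolds
import Cfsg.Agent.Lib.Helper21.Cover3
import Cfsg.Agent.Lib.Helper81.BlockOrth
import Cfsg.Agent.S0932
import Cfsg.Agent.S0933

set_option autoImplicit false
set_option linter.unusedSectionVars false
set_option linter.style.haveILetI false

/-!
# Fong–Reynolds: the concrete data (block `b` of a normal subgroup, stabilizer `T`)
-/

namespace Cfsg.Agent.Lib.Helper20

open Cfsg Cfsg.Agent.Lib.Helper81 Cfsg.Agent.Lib.Helper19 Cfsg.Agent.Lib.Helper21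
  Cfsg.Agent.Lib.Helper5
open scoped ComplexConjugate

section general

variable {N : Type*} [Group N] [Fintype N]

theorem sum_blockCoeff_mul (b : Set (IrrCharacter N)) (f : N → ℂ) :
    ∑ n : N, blockCoeff b n * f n = ∑ᶠ θ ∈ b, (θ : N → ℂ) 1 * classInner f (θ : N → ℂ) := by
  classical
  haveI : Finite (IrrCharacter N) := finite_irrCharacter
  haveI : Fintype (IrrCharacter N) := Fintype.ofFinite _
  simp only [blockCoeff, finsum_mem_irr, classInner]
  simp only [Finset.mul_sum, Finset.sum_mul]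
  rw [Finset.sum_comm]
  apply Finset.sum_congr rfl
  intro θ _
  split_ifs
  · apply Finset.sum_congr rfl
    intro n _
    ring
  · simp

theorem sum_blockCoeff_mul_ne_zero_iff (b : Set (IrrCharacter N)) {f : N → ℂ}
    (hf : IsCharacter N f) :
    (∑ n : N, blockCoeff b n * f n ≠ 0) ↔ ∃ θ ∈ b, classInner f (θ : N → ℂ) ≠ 0 := by
  classical
  haveI : Finite (IrrCharacter N) := finite_irrCharacter
  haveI : Fintype (IrrCharacter N) := Fintype.ofFinite _
  rw [sum_blockCoeff_mul, finsum_mem_irr]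
  have hm : ∀ θ : IrrCharacter N, ∃ m : ℕ, classInner f (θ : N → ℂ) = m :=
    fun θ => isCharacter_classInner_nat hf θ.2
  choose m hm using hm
  have hd : ∀ θ : IrrCharacter N, ∃ d : ℕ, (θ : N → ℂ) 1 = d :=
    fun θ => isCharacter_apply_one (isCharacter_of_isIrrCharacter θ.2)
  choose d hd using hd
  have hd0 : ∀ θ, d θ ≠ 0 := by
    intro θ h0
    have := Cfsg.Agent.Lib.Helper81.irr_one_ne_zero θ.2
    rw [hd, h0] at this
    exact this (by simp)
  have h1 : (∑ θ : IrrCharacter N, if θ ∈ b then (θ : N → ℂ) 1 * classInner f (θ : N → ℂ) else 0)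
      = ((∑ θ : IrrCharacter N, if θ ∈ b then d θ * m θ else 0 : ℕ) : ℂ) := by
    push_cast
    apply Finset.sum_congr rfl
    intro θ _
    split_ifs
    · rw [hd, hm]
    · rfl
  rw [h1, Nat.cast_ne_zero]
  constructor
  · intro h
    obtain ⟨θ, -, hθ⟩ := Finset.exists_ne_zero_of_sum_ne_zero h
    by_cases hb : θ ∈ b
    · rw [if_pos hb] at hθ
      refine ⟨θ, hb, ?_⟩
      rw [hm]
      exact_mod_cast right_ne_zero_of_mul hθ
    · rw [if_neg hb] at hθ
      exact absurd rfl hθ
  · rintro ⟨θ, hb, hθ⟩ h0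
    have h2 := (Finset.sum_eq_zero_iff.1 h0) θ (Finset.mem_univ _)
    rw [if_pos hb] at h2
    rw [hm] at hθ
    rcases Nat.mul_eq_zero.1 h2 with h3 | h3
    · exact hd0 θ h3
    · exact hθ (by rw [h3]; simp)

theorem blockCoeff_inv (b : Set (IrrCharacter N)) (n : N) :
    blockCoeff b n⁻¹ = conj (blockCoeff b n) := by
  classical
  haveI : Finite (IrrCharacter N) := finite_irrCharacter
  haveI : Fintype (IrrCharacter N) := Fintype.ofFinite _
  simp only [blockCoeff, finsum_mem_irr, map_mul, map_sum, map_inv₀, Complex.conj_natCast]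
  congr 1
  apply Finset.sum_congr rfl
  intro θ _
  split_ifs
  · obtain ⟨d, hd⟩ := isCharacter_apply_one (isCharacter_of_isIrrCharacter θ.2)
    rw [map_mul, isCharacter_inv (isCharacter_of_isIrrCharacter θ.2), hd, Complex.conj_natCast]
  · simp

theorem conv_blockCoeff_of_disjoint {b b' : Set (IrrCharacter N)} (h : Disjoint b b') :
    conv (blockCoeff b) (blockCoeff b') = 0 := by
  classical
  apply eq_zero_of_omega_eq_zero
    (conv_classFunction (blockCoeff_classFunction b) (blockCoeff_classFunction b'))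
  intro χ
  rw [omega_conv χ.2 _ _ (blockCoeff_classFunction b'), omega_blockCoeff, omega_blockCoeff]
  by_cases h1 : χ ∈ b
  · rw [if_neg (Set.disjoint_left.1 h h1), mul_zero]
  · rw [if_neg h1, zero_mul]

end general

variable {G : Type*} [Group G] [Fintype G] {N : Subgroup G} [Fintype N]

theorem cjF_blockCoeff (hN : N.Normal) (b : Set (IrrCharacter N)) (g : G) :
    cjF hN (blockCoeff b) g = blockCoeff (cjBlock hN g b) := by
  classical
  haveI : Finite (IrrCharacter N) := finite_irrCharacter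
  haveI : Fintype (IrrCharacter N) := Fintype.ofFinite _
  funext n
  rw [cjF_apply, blockCoeff, blockCoeff, finsum_mem_irr, finsum_mem_irr]
  congr 1
  conv_rhs => rw [← Equiv.sum_comp (cjEquiv hN g)]
  apply Finset.sum_congr rfl
  intro ψ _
  have h1 : cjEquiv hN g ψ = cjIrr hN g ψ := rfl
  rw [h1]
  have h2 : cjIrr hN g ψ ∈ cjBlock hN g b ↔ ψ ∈ b := by
    rw [mem_cjBlock, cjIrr_cjIrr, mul_inv_cancel, cjIrr_one]
  simp only [h2]
  split_ifs
  · rw [cjIrr_coe, cjF_apply, cjF_apply]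
    congr 2
    apply congrArg
    apply Subtype.ext
    simp
  · rfl

theorem ext0_conj (hN : N.Normal) (f : N → ℂ) (x : G) :
    (fun s => ext0 N f (x * s * x⁻¹)) = ext0 N (cjF hN f x) := by
  funext s
  by_cases hs : s ∈ N
  · rw [ext0_of_mem N _ hs, ext0_of_mem N _ (hN.conj_mem s hs x)]
    rfl
  · rw [ext0_of_not_mem N _ hs, ext0_of_not_mem]
    intro h
    apply hs
    have := hN.conj_mem _ h x⁻¹
    simpa [mul_assoc] using this

variable {p : ℕ} {M : Ideal AlgInt}

/-- the hypothesis on the stabilizer, in `cjIrr` form. -/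
theorem stab_iff (hN : N.Normal) {b : Set (IrrCharacter N)} {T : Subgroup G}
    (hT : ∀ g : G, g ∈ T ↔ ∀ θ ∈ b, ∀ θ' : IrrCharacter N,
      (∀ n : N, (θ' : N → ℂ) n = (θ : N → ℂ) ⟨g * n * g⁻¹, hN.conj_mem n n.2 g⟩) → θ' ∈ b)
    (g : G) : g ∈ T ↔ ∀ θ ∈ b, cjIrr hN g θ ∈ b := by
  rw [hT]
  constructor
  · intro h θ hθ
    exact h θ hθ _ (fun n => rfl)
  · intro h θ hθ θ' hθ'
    have : θ' = cjIrr hN g θ := Subtype.ext (funext hθ')
    rw [this]
    exact h θ hθ

theorem cjBlock_eq_of_mem (hN : N.Normal) {b : Set (IrrCharacter N)} {T : Subgroup G}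
    (hT : ∀ g : G, g ∈ T ↔ ∀ θ ∈ b, cjIrr hN g θ ∈ b) {g : G} (hg : g ∈ T) :
    cjBlock hN g b = b := by
  ext ψ
  rw [mem_cjBlock]
  constructor
  · intro h
    have := (hT g).1 hg _ h
    rwa [cjIrr_cjIrr, inv_mul_cancel, cjIrr_one] at this
  · intro h
    exact (hT g⁻¹).1 (T.inv_mem hg) _ h

theorem frData (hM : IsPModular p M) (hN : N.Normal) {b : Set (IrrCharacter N)}
    (hb : IsPBlock M b) {T : Subgroup G}
    (hT : ∀ g : G, g ∈ T ↔ ∀ θ ∈ b, cjIrr hN g θ ∈ b) (hNT : N ≤ T) :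
    FRData T (ext0 N (blockCoeff b)) where
  supp g hg := ext0_of_not_mem N _ (fun h => hg (hNT h))
  inv t ht g := by
    have := congrFun (ext0_conj hN (blockCoeff b) t) g
    rw [cjF_blockCoeff, cjBlock_eq_of_mem hN hT ht] at this
    exact this
  idem := by rw [conv_ext0, conv_blockCoeff_self]
  orth x hx := by
    rw [ext0_conj hN, cjF_blockCoeff, conv_ext0, conv_blockCoeff_of_disjoint]
    · funext g
      by_cases hg : g ∈ N
      · rw [ext0_of_mem N _ hg]; rfl
      · rw [ext0_of_not_mem N _ hg]; rfl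
    · rw [Set.disjoint_left]
      intro θ h1 h2
      apply hx
      have e1 := isPBlock_eq_blockOf hM (isPBlock_cjBlock hN x hb) h1
      have e2 := isPBlock_eq_blockOf hM hb h2
      rw [hT]
      intro θ' hθ'
      have := cjIrr_mem_cjBlock hN x hθ'
      rwa [e1, ← e2] at this
  star g := by
    by_cases hg : g ∈ N
    · rw [ext0_of_mem N _ hg, ext0_of_mem N _ (N.inv_mem hg)]
      exact blockCoeff_inv b ⟨g, hg⟩
    · rw [ext0_of_not_mem N _ hg, ext0_of_not_mem N _ (fun h => hg (by simpa using N.inv_mem h))]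
      simp

theorem ext0_blockCoeff_memLocalRing (hM : IsPModular p M) {b : Set (IrrCharacter N)}
    (hb : IsPBlock M b) (g : G) : MemLocalRing M (ext0 N (blockCoeff b) g) := by
  by_cases hg : g ∈ N
  · rw [ext0_of_mem N _ hg]; exact osima hM b hb _
  · rw [ext0_of_not_mem N _ hg]; exact memLocalRing_zero hM

theorem sum_ext0_mul {T : Subgroup G} [Fintype T] (hNT : N ≤ T) (f : N → ℂ) (φ : T → ℂ) :
    ∑ t : T, ext0 N f t * φ t = ∑ n : N, f n * φ ⟨n, hNT n.2⟩ := by
  have h1 : ∑ t : T, ext0 N f t * φ t = ∑ g : G, ext0 N f g * extendByZero T φ g := by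
    rw [← sum_subgroup_eq T (fun g => ext0 N f g * extendByZero T φ g)]
    · apply Finset.sum_congr rfl
      intro t _
      rw [extendByZero_coe]
    · intro g hg
      rw [extendByZero_of_not_mem T φ hg, mul_zero]
  rw [h1, ← sum_subgroup_eq N (fun g => ext0 N f g * extendByZero T φ g)]
  · apply Finset.sum_congr rfl
    intro n _
    rw [ext0_coe, extendByZero_of_mem T φ (hNT n.2)]
  · intro g hg
    rw [ext0_of_not_mem N _ hg, zero_mul]

theorem isCharacter_res_le {T : Subgroup G} (hNT : N ≤ T) {φ : T → ℂ} (hφ : IsCharacter T φ) :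
    IsCharacter N (fun n : N => φ ⟨n, hNT n.2⟩) :=
  isCharacter_comp_hom hφ (Subgroup.inclusion hNT)

/-- `ψ ∈ Irr(T)` lies over the idempotent of `b` iff it has a constituent in `b`. -/
theorem over_iff {T : Subgroup G} [Fintype T] (hNT : N ≤ T) {b : Set (IrrCharacter N)}
    (hfr : FRData T (ext0 N (blockCoeff b))) {ψ : T → ℂ} (hψ : IsIrrCharacter T ψ) :
    omega ψ (fun t : T => ext0 N (blockCoeff b) t) = 1 ↔
      ∃ θ ∈ b, classInner (fun n : N => ψ ⟨(n : G), hNT n.2⟩) (θ : N → ℂ) ≠ 0 := by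
  rw [← sum_blockCoeff_mul_ne_zero_iff b (isCharacter_res_le hNT (isCharacter_of_isIrrCharacter hψ)),
    ← sum_ext0_mul hNT]
  have h10 := Cfsg.Agent.Lib.Helper81.irr_one_ne_zero hψ
  have e : omega ψ (fun t : T => ext0 N (blockCoeff b) t)
      = (∑ t : T, ext0 N (blockCoeff b) t * ψ t) / ψ 1 := by
    rw [omega, Finset.sum_div]
  constructor
  · intro h h0
    rw [e, h0, zero_div] at h
    exact zero_ne_one h
  · intro h
    apply (hfr.omega_eq hψ).resolve_left
    rw [e]
    exact div_ne_zero h h10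

theorem sum_ne_zero_iff {T : Subgroup G} [Fintype T] (hNT : N ≤ T) (b : Set (IrrCharacter N))
    {χ : G → ℂ} (hχ : IsIrrCharacter G χ) :
    (∑ t : T, ext0 N (blockCoeff b) t * χ t ≠ 0) ↔
      ∃ θ ∈ b, classInner (fun n : N => χ n) (θ : N → ℂ) ≠ 0 := by
  rw [← sum_blockCoeff_mul_ne_zero_iff b (isCharacter_restrict (isCharacter_of_isIrrCharacter hχ) N),
    sum_ext0_mul hNT _ (fun t : T => χ t)]

end Cfsg.Agent.Lib.Helper20
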