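import Cfsg.Agent.Lib.Helper20.FongReynolds2

set_option autoImplicit false
set_option linter.unusedSectionVars false
set_option linter.style.haveILetI false

/-!
# Fong–Reynolds: block statements
-/

namespace Cfsg.Agent.Lib.Helper20

open Cfsg Cfsg.Agent.Lib.Helper81 Cfsg.Agent.Lib.Helper19 Cfsg.Agent.Lib.Helper21
  Cfsg.Agent.Lib.Helper5
open scoped ComplexConjugate

variable {G : Type*} [Group G] [Fintype G] {T : Subgroup G} [Fintype T] {E : G → ℂ}
  {p : ℕ} {M : Ideal AlgInt}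

theorem sameBlock_indFun (hM : IsPModular p M) {ψ ψ' : IrrCharacter T}
    (hs : SameBlock M (ψ : T → ℂ) (ψ' : T → ℂ)) :
    SameBlock M (indFun T (ψ : T → ℂ)) (indFun T (ψ' : T → ℂ)) := by
  intro g
  rw [← Cfsg.Agent.S0932.result T _ (isCharacter_of_isIrrCharacter ψ.2),
    ← Cfsg.Agent.S0932.result T _ (isCharacter_of_isIrrCharacter ψ'.2)]
  exact inducedCentralChar_sub_of_sameBlock hM hs g

theorem FRData.mem_blockOf_indFun_iff (h : FRData T E) (hM : IsPModular p M)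
    (hER : ∀ g, MemLocalRing M (E g)) {ψ₀ : IrrCharacter T}
    (hov : omega (ψ₀ : T → ℂ) (fun t : T => E t) = 1) (χ : IrrCharacter G) :
    χ ∈ blockOf M (indFun T (ψ₀ : T → ℂ)) ↔
      ∃ ψ ∈ blockOf M (ψ₀ : T → ℂ), (χ : G → ℂ) = indFun T (ψ : T → ℂ) := by
  constructor
  · intro hχ
    have hs : SameBlock M (indFun T (ψ₀ : T → ℂ)) (χ : G → ℂ) := hχ
    obtain ⟨μ, hμ, e⟩ := h.exists_of_sum_ne_zero χ.2
      (h.sum_ne_zero_of_sameBlock hM hER ψ₀.2 hov χ.2 hs)
    rw [e] at hs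
    have h2 : SameBlock M (ψ₀ : T → ℂ) (μ : T → ℂ) :=
      h.sameBlock_of_indFun hM hER ψ₀.2 hov μ.2 hμ hs
    exact ⟨μ, h2, e⟩
  · rintro ⟨ψ, hψ, e⟩
    have h3 : SameBlock M (indFun T (ψ₀ : T → ℂ)) (χ : G → ℂ) := by
      rw [e]
      exact sameBlock_indFun hM hψ
    exact h3

/-- if `B'` (containing `ψ`) induces `B`, then `B` is the "block" of `ψ^G`. -/
theorem eq_blockOf_indFun_of_induced (hM : IsPModular p M)
    {B' : Set (IrrCharacter T)} {B : Set (IrrCharacter G)} (hind : IsInducedBlock M T B' B)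
    {ψ : IrrCharacter T} (hψ : ψ ∈ B') :
    B = blockOf M (indFun T (ψ : T → ℂ)) := by
  obtain ⟨χ, hχ⟩ := isPBlock_nonempty hM hind.2.1
  have h0 : SameBlock M (indFun T (ψ : T → ℂ)) (χ : G → ℂ) := by
    intro g
    rw [← Cfsg.Agent.S0932.result T _ (isCharacter_of_isIrrCharacter ψ.2)]
    exact hind.2.2 ψ hψ χ hχ g
  rw [isPBlock_eq_blockOf hM hind.2.1 hχ]
  ext χ'
  constructor
  · intro h2
    exact sameBlock_trans hM h0 h2
  · intro h2
    exact sameBlock_trans hM (sameBlock_symm h0) h2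

end Cfsg.Agent.Lib.Helper20
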