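import Cfsg.Agent.Lib.Helper20.InducedBlock
import Cfsg.Agent.Lib.Helper21.DefectCard
import Cfsg.Agent.Lib.Helper81.BlockProj
import Cfsg.Agent.Lib.Helper82.Codegree

set_option autoImplicit false
open Cfsg
open scoped ComplexConjugate
open Cfsg.Agent.Lib.Helper81 Cfsg.Agent.Lib.Helper21

namespace Cfsg.Agent.Lib.Helper20

variable {p : ℕ} {M : Ideal AlgInt}

theorem memLocalRing_natCast_div (hM : IsPModular p M) {A B : ℕ} (hB : B ≠ 0)
    (h : p ^ (B.factorization p) ∣ A) : MemLocalRing M ((A : ℂ) / (B : ℂ)) := by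
  obtain ⟨A', rfl⟩ := h
  have h1 : (B : ℂ) = ((p ^ (B.factorization p) : ℕ) : ℂ) * ((B / p ^ (B.factorization p) : ℕ) : ℂ) := by
    rw [← Nat.cast_mul, Nat.ordProj_mul_ordCompl_eq_self]
  have hp0 : ((p ^ (B.factorization p) : ℕ) : ℂ) ≠ 0 := by
    exact_mod_cast (pow_pos hM.1.pos _).ne'
  rw [h1, Nat.cast_mul, mul_div_mul_left _ _ hp0]
  apply memLocalRing_div hM (memLocalRing_natCast hM _) (memLocalRing_natCast hM _)
  rw [memLocalIdeal_natCast_iff hM]
  exact Nat.not_dvd_ordCompl hM.1 hB

theorem memLocalIdeal_natCast_div (hM : IsPModular p M) {A B : ℕ} (hB : B ≠ 0)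
    (h : p ^ (B.factorization p + 1) ∣ A) : MemLocalIdeal M ((A : ℂ) / (B : ℂ)) := by
  obtain ⟨A', rfl⟩ := h
  have h1 : (((p ^ (B.factorization p + 1) * A' : ℕ) : ℂ)) / (B : ℂ)
      = (p : ℂ) * (((p ^ (B.factorization p) * A' : ℕ) : ℂ) / (B : ℂ)) := by
    push_cast
    ring
  rw [h1]
  exact memLocalIdeal_mul_right hM (memLocalIdeal_p hM)
    (memLocalRing_natCast_div hM hB (Dvd.intro _ rfl))

variable {G : Type*} [Group G]

/-- The class function `g ↦ conj (χ g)` on the `p`-regular elements, extended by zero. -/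
noncomputable def zreg (p : ℕ) (χ : G → ℂ) : G → ℂ := pRegularPart p (fun g => conj (χ g))

theorem pRegularPart_pos {θ : G → ℂ} {g : G} (hg : ¬ p ∣ orderOf g) :
    pRegularPart p θ g = θ g := by
  simp only [pRegularPart]; exact if_pos hg

theorem pRegularPart_neg {θ : G → ℂ} {g : G} (hg : p ∣ orderOf g) :
    pRegularPart p θ g = 0 := by
  simp only [pRegularPart]; exact if_neg (fun h => h hg)

theorem zreg_pos {χ : G → ℂ} {g : G} (hg : ¬ p ∣ orderOf g) : zreg p χ g = conj (χ g) :=
  pRegularPart_pos hg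

theorem zreg_neg {χ : G → ℂ} {g : G} (hg : p ∣ orderOf g) : zreg p χ g = 0 :=
  pRegularPart_neg hg

theorem orderOf_conj_eq (g h : G) : orderOf (h * g * h⁻¹) = orderOf g :=
  (MulAut.conj h).orderOf_eq g

theorem pRegularPart_classFunction {θ : G → ℂ} (hθ : IsClassFunction G θ) :
    IsClassFunction G (pRegularPart p θ) := by
  intro g h
  by_cases hg : p ∣ orderOf g
  · rw [pRegularPart_neg hg, pRegularPart_neg (by rwa [orderOf_conj_eq])]
  · rw [pRegularPart_pos hg, pRegularPart_pos (by rwa [orderOf_conj_eq]), hθ]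

theorem zreg_classFunction {χ : G → ℂ} (hχ : IsClassFunction G χ) :
    IsClassFunction G (zreg p χ) :=
  pRegularPart_classFunction (fun g h => by rw [hχ])

theorem zreg_memLocalRing [Finite G] (hM : IsPModular p M) {χ : G → ℂ} (hχ : IsCharacter G χ)
    (g : G) : MemLocalRing M (zreg p χ g) := by
  by_cases hg : p ∣ orderOf g
  · rw [zreg_neg hg]; exact memLocalRing_zero hM
  · rw [zreg_pos hg, ← isCharacter_inv hχ]
    exact memLocalRing_of_isIntegral hM (isCharacter_isIntegral hχ _)

theorem zreg_res (H : Subgroup G) (χ : G → ℂ) :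
    (fun h : H => zreg p χ (h : G)) = zreg p (fun h : H => χ (h : G)) := by
  funext h
  by_cases hg : p ∣ orderOf h
  · rw [zreg_neg hg, zreg_neg (by rwa [Subgroup.orderOf_coe])]
  · rw [zreg_pos hg, zreg_pos (by rwa [Subgroup.orderOf_coe])]

variable [Fintype G]

theorem omega_zreg (χ' χ : G → ℂ) :
    omega χ' (zreg p χ) = (Nat.card G : ℂ) / χ' 1 * classInner (pRegularPart p χ') χ := by
  have hG : (Nat.card G : ℂ) ≠ 0 := card_ne_zero_complex
  simp only [omega, classInner]
  rw [← Finset.sum_div]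
  have h1 : ∑ g, zreg p χ g * χ' g = ∑ g, pRegularPart p χ' g * conj (χ g) := by
    apply Finset.sum_congr rfl
    intro g _
    by_cases hg : p ∣ orderOf g
    · rw [zreg_neg hg, pRegularPart_neg hg]; ring
    · rw [zreg_pos hg, pRegularPart_pos hg]; ring
  rw [h1]
  field_simp

/-- `z_χ` is killed by the central characters outside the block of `χ`. -/
theorem omega_zreg_eq_zero (hM : IsPModular p M) {χ' χ : IrrCharacter G}
    (h : ¬ SameBlock M (χ' : G → ℂ) (χ : G → ℂ)) :
    omega (χ' : G → ℂ) (zreg p (χ : G → ℂ)) = 0 := by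
  rw [omega_zreg, classInner_pRegularPart_eq_zero hM h, mul_zero]

/-- Symmetry of the `p`-regular inner product. -/
theorem classInner_pRegularPart_symm {χ ψ : G → ℂ} (hχ : IsCharacter G χ) (hψ : IsCharacter G ψ) :
    classInner (pRegularPart p χ) ψ = classInner (pRegularPart p ψ) χ := by
  simp only [classInner]
  congr 1
  rw [← Equiv.sum_comp (Equiv.inv G)]
  apply Finset.sum_congr rfl
  intro g _
  simp only [Equiv.inv_apply]
  by_cases hg : p ∣ orderOf g
  · rw [pRegularPart_neg hg, pRegularPart_neg (by rwa [orderOf_inv])]; ring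
  · rw [pRegularPart_pos hg, pRegularPart_pos (by rwa [orderOf_inv]), isCharacter_inv hχ,
      isCharacter_inv hψ, Complex.conj_conj]; ring


omit [Fintype G] in
theorem dvd_orderOf_mul_of_pGroup (hp : p.Prime) {u x : G} (hu : ∃ k : ℕ, orderOf u = p ^ k)
    (hu1 : u ≠ 1) (hx : ¬ p ∣ orderOf x) (hc : u * x = x * u) : p ∣ orderOf (u * x) := by
  obtain ⟨k, hk⟩ := hu
  have hk0 : k ≠ 0 := by
    rintro rfl
    rw [pow_zero, orderOf_eq_one_iff] at hk
    exact hu1 hk
  have hcop : Nat.Coprime (orderOf u) (orderOf x) := by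
    rw [hk]
    exact Nat.Coprime.pow_left _ ((Nat.Prime.coprime_iff_not_dvd hp).2 hx)
  have hcomm : Commute u x := hc
  rw [hcomm.orderOf_mul_eq_mul_orderOf_of_coprime hcop, hk]
  exact Dvd.dvd.mul_right (dvd_pow_self p hk0) _

omit [Fintype G] in
/-- the numerical content of height zero -/
theorem factorization_of_height_zero {B : Set (IrrCharacter G)} {χ : IrrCharacter G} (hχ : χ ∈ B)
    (h0 : blockHeight p B (χ : G → ℂ) = 0) :
    (charDegree (χ : G → ℂ)).factorization p
      = sInf ((fun χ : IrrCharacter G => (charDegree (χ : G → ℂ)).factorization p) '' B) := by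
  apply le_antisymm
  · rw [blockHeight] at h0
    omega
  · exact Nat.sInf_le ⟨χ, hχ, rfl⟩

omit [Fintype G] in
theorem sInf_le_factorization {B : Set (IrrCharacter G)} {χ : IrrCharacter G} (hχ : χ ∈ B) :
    sInf ((fun χ : IrrCharacter G => (charDegree (χ : G → ℂ)).factorization p) '' B)
      ≤ (charDegree (χ : G → ℂ)).factorization p := Nat.sInf_le ⟨χ, hχ, rfl⟩


/-- A height zero character does not vanish modulo the local ideal on a defect class. -/
theorem height_zero_apply_defectClass (hM : IsPModular p M) (B : Set (IrrCharacter G))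
    (hB : IsPBlock M B) (χ : IrrCharacter G) (hχ : χ ∈ B)
    (h0 : blockHeight p B (χ : G → ℂ) = 0) {x : G} (hx : IsDefectClass M B x) :
    ¬ MemLocalIdeal M ((χ : G → ℂ) x) := by
  intro hcon
  apply hx.2.2 χ hχ
  have hp := hM.1
  set C := Subgroup.centralizer ({x} : Set G) with hC
  have h1 : Nat.card C * C.index = Nat.card G := C.card_mul_index
  have hC0 : Nat.card C ≠ 0 := Nat.card_pos.ne'
  have hI0 : C.index ≠ 0 := by
    intro h; rw [h, mul_zero] at h1; exact Nat.card_pos.ne' h1.symm
  have h2 : (Nat.card C).factorization p + C.index.factorization p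
      = (Nat.card G).factorization p := by
    rw [← h1, Nat.factorization_mul hC0 hI0]; rfl
  have h3 := factorization_centralizer_defectClass hM B hB x hx
  have h4 := factorization_of_height_zero hχ h0
  have h5 : (charDegree (χ : G → ℂ)).factorization p ≤ (Nat.card G).factorization p :=
    (Nat.factorization_le_iff_dvd (Cfsg.Agent.Lib.Helper82.isIrr_charDegree_pos χ.2).ne'
      Nat.card_pos.ne').2 (Cfsg.Agent.Lib.Helper82.isIrr_charDegree_dvd_card χ.2) p
  rw [blockDefect, ← h4] at h3
  have h6 : (charDegree (χ : G → ℂ)).factorization p ≤ C.index.factorization p := by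
    rw [← hC] at h3
    omega
  have h7 : MemLocalRing M ((C.index : ℂ) / (charDegree (χ : G → ℂ) : ℂ)) := by
    apply memLocalRing_natCast_div hM (Cfsg.Agent.Lib.Helper82.isIrr_charDegree_pos χ.2).ne'
    exact (pow_dvd_pow p h6).trans (Nat.ordProj_dvd _ p)
  have h8 : centralChar (χ : G → ℂ) x
      = (C.index : ℂ) / (charDegree (χ : G → ℂ) : ℂ) * (χ : G → ℂ) x := by
    rw [centralChar, irr_one_eq_charDegree]
    ring
  rw [h8]
  exact memLocalIdeal_mul_left hM h7 hcon

/-- **Brauer.**  If `χ` has height zero in its block then `(|G|/χ(1)) [χ,χ]°` is a unit of the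
local ring. -/
theorem omega_zreg_self_unit [Fact p.Prime] (hM : IsPModular p M) (B : Set (IrrCharacter G))
    (hB : IsPBlock M B) (χ : IrrCharacter G) (hχ : χ ∈ B)
    (h0 : blockHeight p B (χ : G → ℂ) = 0) :
    ¬ MemLocalIdeal M (omega (χ : G → ℂ) (zreg p (χ : G → ℂ))) := by
  classical
  intro hu
  have : Finite (IrrCharacter G) := finite_irrCharacter
  have : Fintype (IrrCharacter G) := Fintype.ofFinite _
  have hp := hM.1
  obtain ⟨x, hx⟩ := exists_defectClass hM B hB
  have hxreg : ¬ p ∣ orderOf x := by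
    intro h
    apply hx.2.1
    rw [blockCoeff_eq_zero_of_singular hM B hB h]
    exact memLocalIdeal_zero hM
  let S : Sylow p (Subgroup.centralizer ({x} : Set G)) := default
  set D : Subgroup G := (S : Subgroup _).map (Subgroup.centralizer ({x} : Set G)).subtype with hD
  have hDdef : IsDefectGroup p M B D := ⟨x, hx, S, rfl⟩
  have hDcard : Nat.card D = p ^ blockDefect p B := card_defectGroup hM B hB D hDdef
  have hDx : ∀ u ∈ D, u * x = x * u := by
    intro u hu
    obtain ⟨c, _, rfl⟩ := Subgroup.mem_map.1 hu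
    exact ((Subgroup.mem_centralizer_iff.1 c.2) x rfl).symm
  have hDp : IsPGroup p D := IsPGroup.of_card hDcard
  apply height_zero_apply_defectClass hM B hB χ hχ h0 hx
  -- expansion of the regular part
  have hexp := eq_sum_classInner_smul (pRegularPart_classFunction (p := p) (irr_classFunction χ))
  set c : IrrCharacter G → ℂ := fun ψ => classInner (pRegularPart p (χ : G → ℂ)) (ψ : G → ℂ) with hc
  have h1 : (χ : G → ℂ) x = ∑ u : D, pRegularPart p (χ : G → ℂ) ((u : G) * x) := by
    rw [Finset.sum_eq_single (1 : D)]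
    · simp [pRegularPart_pos hxreg]
    · intro u _ hu1
      apply pRegularPart_neg
      apply dvd_orderOf_mul_of_pGroup hp _ (fun h => hu1 (Subtype.ext h)) hxreg (hDx u u.2)
      obtain ⟨k, hk⟩ := (IsPGroup.iff_orderOf.1 hDp) u
      exact ⟨k, by rw [← hk, Subgroup.orderOf_coe]⟩
    · intro h; exact absurd (Finset.mem_univ _) h
  have h2 : ∀ g : G, pRegularPart p (χ : G → ℂ) g = ∑ ψ : IrrCharacter G, c ψ * (ψ : G → ℂ) g := by
    intro g
    have := congrFun hexp g
    rw [this]
    simp [hc]
  have hD0 : (Nat.card D : ℂ) ≠ 0 := by exact_mod_cast Nat.card_pos.ne'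
  have h3 : (χ : G → ℂ) x = ∑ ψ : IrrCharacter G, ((Nat.card D : ℂ) * c ψ) *
      ((Nat.card D : ℂ)⁻¹ * ∑ u : D, (ψ : G → ℂ) ((u : G) * x)) := by
    rw [h1]
    simp only [h2]
    rw [Finset.sum_comm]
    apply Finset.sum_congr rfl
    intro ψ _
    rw [← Finset.mul_sum]
    field_simp
  rw [h3]
  apply memLocalIdeal_sum hM
  intro ψ _
  apply memLocalIdeal_mul_right hM _ (memLocalRing_of_isIntegral hM
    (isIntegral_avg_char (isCharacter_of_isIrrCharacter ψ.2) D x hDx))
  by_cases hψ : ψ ∈ B
  · -- `|D| c_ψ = (p^d ψ(1)/|G|) ω_ψ(z_χ)`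
    have h4 : MemLocalIdeal M (omega (ψ : G → ℂ) (zreg p (χ : G → ℂ))) := by
      have h5 := omega_sub_memLocalIdeal hM (isPBlock_sameBlock hM hB hψ hχ)
        (zreg_classFunction (p := p) (irr_classFunction χ))
        (zreg_memLocalRing hM (isCharacter_of_isIrrCharacter χ.2))
      have h6 := memLocalIdeal_add hM h5 hu
      rwa [sub_add_cancel] at h6
    have h5 : (Nat.card D : ℂ) * c ψ = (((p ^ blockDefect p B * charDegree (ψ : G → ℂ) : ℕ) : ℂ)
        / (Nat.card G : ℂ)) * omega (ψ : G → ℂ) (zreg p (χ : G → ℂ)) := by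
      rw [omega_zreg, hc, hDcard, irr_one_eq_charDegree]
      simp only
      rw [classInner_pRegularPart_symm (isCharacter_of_isIrrCharacter χ.2)
        (isCharacter_of_isIrrCharacter ψ.2)]
      have h6 : (charDegree (ψ : G → ℂ) : ℂ) ≠ 0 := by
        exact_mod_cast (Cfsg.Agent.Lib.Helper82.isIrr_charDegree_pos ψ.2).ne'
      have hG : (Nat.card G : ℂ) ≠ 0 := card_ne_zero_complex
      push_cast
      field_simp
    rw [h5]
    apply memLocalIdeal_mul_left hM _ h4
    apply memLocalRing_natCast_div hM Nat.card_pos.ne'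
    have h6 := sInf_le_factorization (p := p) hψ
    have h7 : (Nat.card G).factorization p ≤ blockDefect p B
        + (charDegree (ψ : G → ℂ)).factorization p := by
      rw [blockDefect]; omega
    calc p ^ (Nat.card G).factorization p ∣ p ^ (blockDefect p B
        + (charDegree (ψ : G → ℂ)).factorization p) := pow_dvd_pow p h7
      _ = p ^ blockDefect p B * p ^ (charDegree (ψ : G → ℂ)).factorization p := pow_add _ _ _
      _ ∣ p ^ blockDefect p B * charDegree (ψ : G → ℂ) :=
        Nat.mul_dvd_mul_left _ (Nat.ordProj_dvd _ p)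
  · have h4 : c ψ = 0 := by
      apply classInner_pRegularPart_eq_zero hM
      intro h
      apply hψ
      rw [isPBlock_eq_blockOf hM hB hχ]
      exact h
    rw [h4, mul_zero]
    exact memLocalIdeal_zero hM

end Cfsg.Agent.Lib.Helper20
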