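import Cfsg.Agent.Lib.Helper20.BrauerMap

set_option autoImplicit false
open Cfsg
open scoped ComplexConjugate
open Cfsg.Agent.Lib.Helper81 Cfsg.Agent.Lib.Helper21

namespace Cfsg.Agent.Lib.Helper20

variable {G : Type*} [Group G] [Fintype G] {p : ℕ} {M : Ideal AlgInt}

/-- The value of `ω_ξ` on the restriction of a class function of `G`, class by class. -/
theorem omega_res_eq_sum_classes [Fintype (ConjClasses G)] (H : Subgroup G) [Fintype H]
    (ξ : H → ℂ) {z : G → ℂ} (hz : IsClassFunction G z) :
    omega ξ (fun h : H => z (h : G))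
      = ∑ C : ConjClasses G, z (Quotient.out C) * inducedCentralChar H ξ (Quotient.out C) := by
  classical
  simp only [inducedCentralChar_eq_omega, omega]
  rw [← Finset.sum_fiberwise Finset.univ (fun h : H => ConjClasses.mk (h : G))]
  apply Finset.sum_congr rfl
  intro C _
  rw [Finset.mul_sum, Finset.sum_filter]
  apply Finset.sum_congr rfl
  intro h _
  by_cases hC : ConjClasses.mk (h : G) = C
  · rw [if_pos hC]
    have h1 : IsConj (Quotient.out C) (h : G) := by
      rw [← hC]; exact isConj_out _
    rw [classInd_pos h1, classFunction_isConj hz h1]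
    ring
  · rw [if_neg hC]
    have h1 : ¬ IsConj (Quotient.out C) (h : G) := by
      intro h2
      apply hC
      rw [← ConjClasses.mk_eq_mk_iff_isConj] at h2
      rw [← h2]
      exact Quotient.out_eq C
    rw [classInd_neg h1]
    ring

/-- If the induced central character of `ξ` is congruent to the central character of `χ` then
`ω_ξ(z|_H) ≡ ω_χ(z)` for all locally integral class functions `z`. -/
theorem omega_res_sub_omega (hM : IsPModular p M) (H : Subgroup G) [Fintype H]
    (ξ : H → ℂ) (χ : IrrCharacter G)
    (h : ∀ g : G, MemLocalIdeal M (inducedCentralChar H ξ g - centralChar (χ : G → ℂ) g))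
    {z : G → ℂ} (hz : IsClassFunction G z) (hzR : ∀ g, MemLocalRing M (z g)) :
    MemLocalIdeal M (omega ξ (fun h : H => z (h : G)) - omega (χ : G → ℂ) z) := by
  classical
  haveI : Fintype (ConjClasses G) := Fintype.ofFinite _
  rw [omega_res_eq_sum_classes H ξ hz, omega_eq_sum_classes (irr_classFunction χ) hz,
    ← Finset.sum_sub_distrib]
  apply memLocalIdeal_sum hM
  intro C _
  rw [← mul_sub]
  exact memLocalIdeal_mul_left hM (hzR _) (h _)

end Cfsg.Agent.Lib.Helper20
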