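import Mathlib

/-! Numeric shadow of the principal block of a group with a Sylow subgroup of prime order
(landed S4441), used for the character degrees of a simple group of order 7920 (S4429). -/

set_option autoImplicit false

namespace Cfsg.Agent.Lib.Helper20.M11

/-- degrees `d` of the irreducible characters of a simple group of order 7920. -/
structure Base {ι : Type*} [Fintype ι] (d : ι → ℕ) (i₀ : ι) : Prop where
  dvd : ∀ i, d i ∣ 7920
  sq : ∑ i, d i ^ 2 = 7920
  one : d i₀ = 1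
  uniq : ∀ i, d i = 1 → i = i₀

/-- numeric shadow of S4441: `X` the non-exceptional, `Y` the exceptional characters. -/
structure Shadow {ι : Type*} (d : ι → ℕ) (p e : ℕ) (X Y : Finset ι) (s : ι → ℤ) (ε : ℤ) :
    Prop where
  disj : Disjoint X Y
  cardX : X.card = e
  cardY : Y.card = (p - 1) / e
  sgn : ∀ i ∈ X, s i = 1 ∨ s i = -1
  congX : ∀ i ∈ X, (d i : ℤ) ≡ s i [ZMOD (p : ℤ)]
  eps : ε = 1 ∨ ε = -1
  congY : ∀ i ∈ Y, (d i : ℤ) ≡ ε * (e : ℤ) [ZMOD (p : ℤ)]
  eqY : ∀ i ∈ Y, ∀ j ∈ Y, d i = d j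
  rel : ∀ i ∈ Y, ε * (d i : ℤ) = ∑ j ∈ X, s j * (d j : ℤ)

end Cfsg.Agent.Lib.Helper20.M11
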