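import Cfsg.Agent.S4441
import Cfsg.Agent.Lib.Helper20.M11Defs
import Cfsg.Agent.Lib.Helper82.Basic

set_option autoImplicit false
set_option linter.unusedSectionVars false
set_option linter.unusedVariables false
set_option linter.style.haveILetI false

open Cfsg Cfsg.Agent.Lib.Helper20.M11 Cfsg.Agent.Lib.Helper82

namespace Cfsg.Agent.Lib.Helper20.M11

theorem bridge {G : Type*} [Group G] [Fintype G] [Fintype (IrrCharacter G)]
    [DecidableEq (IrrCharacter G)] (p : ℕ) [Fact p.Prime] (M : Ideal AlgInt)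
    (hM : IsPModular p M) (hodd : p ≠ 2) (P : Sylow p G) (hP : Nat.card P = p) (e : ℕ)
    (he : (Subgroup.centralizer ((P : Subgroup G) : Set G)).relIndex
      (Subgroup.normalizer ((P : Subgroup G) : Set G)) = e) :
    ∃ (X Y : Finset (IrrCharacter G)) (s : IrrCharacter G → ℤ) (ε : ℤ),
      (∀ χ, χ ∈ principalBlock M G ↔ χ ∈ X ∪ Y) ∧
      Shadow (fun χ : IrrCharacter G => charDegree (χ : G → ℂ)) p e X Y s ε ∧
      ∀ χ ∈ X, ∀ x : G, x ∈ (P : Subgroup G) → x ≠ 1 → ∀ y : G,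
        y ∈ Subgroup.centralizer ((P : Subgroup G) : Set G) → ¬ p ∣ orderOf y →
        (χ : G → ℂ) (x * y) = (s χ : ℂ) := by
  classical
  obtain ⟨X, Y, hB, hdisj, hcX, hcY, s, ε, hX, hε, hY1, hY2, hY3⟩ :=
    Cfsg.Agent.S4441.result p M hM hodd P hP e he
  have hp1 : ¬ p ∣ orderOf (1 : G) := by
    rw [orderOf_one]
    exact (Fact.out : p.Prime).one_lt.ne' ∘ Nat.dvd_one.1
  have hdeg : ∀ χ : IrrCharacter G, (χ : G → ℂ) 1 = (charDegree (χ : G → ℂ) : ℂ) :=
    fun χ => isChar_one_eq (isIrr_isChar χ.2)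
  refine ⟨X.toFinset, Y.toFinset, s, ε, ?_, ?_, ?_⟩
  · intro χ
    rw [hB]
    simp
  · refine ⟨?_, ?_, ?_, ?_, ?_, hε, ?_, ?_, ?_⟩
    · rw [Set.disjoint_toFinset]; exact hdisj
    · rw [Set.toFinset_card, ← Nat.card_eq_fintype_card]; exact hcX
    · rw [Set.toFinset_card, ← Nat.card_eq_fintype_card]; exact hcY
    · intro i hi; exact (hX i (Set.mem_toFinset.1 hi)).1
    · intro i hi; exact (hX i (Set.mem_toFinset.1 hi)).2.1
    · intro i hi; exact hY1 i (Set.mem_toFinset.1 hi)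
    · intro i hi j hj
      have h := hY2 i (Set.mem_toFinset.1 hi) j (Set.mem_toFinset.1 hj) 1 hp1
      rw [hdeg, hdeg] at h
      exact_mod_cast h
    · intro i hi
      have h := hY3 i (Set.mem_toFinset.1 hi) 1 hp1
      rw [finsum_mem_eq_finite_toFinset_sum _ (Set.toFinite X)] at h
      simp only [hdeg] at h
      have h2 : (Set.toFinite X).toFinset = X.toFinset := by
        ext; simp
      rw [h2] at h
      exact_mod_cast h
  · intro χ hχ
    exact (hX χ (Set.mem_toFinset.1 hχ)).2.2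

end Cfsg.Agent.Lib.Helper20.M11
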