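import Cfsg.Agent.Lib.Helper63.Kazarin2
import Cfsg.Agent.Lib.Helper82.Codegree
import Cfsg.Agent.Lib.Helper82.Linear
import Cfsg.Agent.Lib.Helper20.M11Defs

set_option autoImplicit false
set_option linter.unusedSectionVars false
set_option linter.unusedVariables false
set_option linter.style.haveILetI false

open Cfsg Cfsg.Agent.Lib.Helper82 Cfsg.Agent.Lib.Helper63

namespace Cfsg.Agent.Lib.Helper20.M11

theorem eq_one_of_norm_eq {G : Type*} [Group G] [Finite G] [IsSimpleGroup G]
    (χ : IrrCharacter G) (hχ : charDegree (χ : G → ℂ) ≠ 1) (g : G)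
    (hg : ‖(χ : G → ℂ) g‖ = (charDegree (χ : G → ℂ) : ℝ)) : g = 1 := by
  by_contra hg1
  obtain ⟨n, ρ, hρ, hχρ⟩ := χ.2
  have hdeg : charDegree (χ : G → ℂ) = n := by
    rw [← hχρ]
    simp [charDegree, Representation.char_one]
  have hsc : ∃ c : ℂ, ρ g = c • LinearMap.id := by
    apply (Cfsg.Agent.S0138.result ρ g).1
    rw [Module.finrank_fin_fun, hχρ, hg, hdeg]
  have hn : Subgroup.normalClosure ({g} : Set G) = ⊤ := by
    rcases (Subgroup.normalClosure_normal (s := ({g} : Set G))).eq_bot_or_eq_top with h | h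
    · exfalso
      have : g ∈ Subgroup.normalClosure ({g} : Set G) :=
        Subgroup.subset_normalClosure (Set.mem_singleton g)
      rw [h, Subgroup.mem_bot] at this
      exact hg1 this
    · exact h
  have hall := scalarSubgroup_eq_top ρ g hn hsc
  exact hχ (hdeg.trans (degree_one_of_scalar ρ hρ hall))

theorem base_of_simple {G : Type*} [Group G] [Finite G] [IsSimpleGroup G]
    [Fintype (IrrCharacter G)] (hG : Nat.card G = 7920) :
    Base (fun χ : IrrCharacter G => charDegree (χ : G → ℂ))
      (Cfsg.Agent.Lib.Helper80.trivIrr G) := by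
  refine ⟨?_, ?_, ?_, ?_⟩
  · intro χ
    rw [← hG]
    exact isIrr_charDegree_dvd_card χ.2
  · rw [← hG]
    exact sum_sq_charDegree
  · simp [charDegree, Cfsg.Agent.Lib.Helper80.trivIrr]
  · intro χ hχ
    have hχ' : charDegree (χ : G → ℂ) = 1 := hχ
    have h1 : (χ : G → ℂ) 1 = 1 := by
      rw [isChar_one_eq (isIrr_isChar χ.2), hχ']; simp
    have hmul := isChar_linear_mul (isIrr_isChar χ.2) h1
    -- the kernel
    let K : Subgroup G :=
      { carrier := {g | (χ : G → ℂ) g = 1}
        one_mem' := h1
        mul_mem' := by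
          intro a b ha hb
          show (χ : G → ℂ) (a * b) = 1
          rw [hmul, ha, hb, one_mul]
        inv_mem' := by
          intro a ha
          show (χ : G → ℂ) a⁻¹ = 1
          have := hmul a a⁻¹
          rw [mul_inv_cancel, h1, ha, one_mul] at this
          exact this.symm }
    have hKn : K.Normal := by
      constructor
      intro n hn g
      show (χ : G → ℂ) (g * n * g⁻¹) = 1
      have h2 : (χ : G → ℂ) n = 1 := hn
      have h3 := hmul g g⁻¹
      rw [mul_inv_cancel, h1] at h3
      rw [hmul, hmul, h2, mul_one, ← h3]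
    have hcomm : ∀ a b : G, a * b * a⁻¹ * b⁻¹ ∈ K := by
      intro a b
      show (χ : G → ℂ) (a * b * a⁻¹ * b⁻¹) = 1
      have h3 := hmul a a⁻¹
      rw [mul_inv_cancel, h1] at h3
      have h4 := hmul b b⁻¹
      rw [mul_inv_cancel, h1] at h4
      rw [hmul, hmul, hmul]
      calc (χ : G → ℂ) a * (χ : G → ℂ) b * (χ : G → ℂ) a⁻¹ * (χ : G → ℂ) b⁻¹
          = ((χ : G → ℂ) a * (χ : G → ℂ) a⁻¹) * ((χ : G → ℂ) b * (χ : G → ℂ) b⁻¹) := by ring
        _ = 1 := by rw [← h3, ← h4, one_mul]
    rcases hKn.eq_bot_or_eq_top with h | h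
    · -- G abelian: contradiction
      exfalso
      have hab : ∀ a b : G, a * b = b * a := by
        intro a b
        have := hcomm a b
        rw [h, Subgroup.mem_bot] at this
        calc a * b = (a * b * a⁻¹ * b⁻¹) * (b * a) := by group
          _ = b * a := by rw [this, one_mul]
      letI : CommGroup G := { (inferInstance : Group G) with mul_comm := hab }
      have hprime := IsSimpleGroup.prime_card (α := G)
      rw [hG] at hprime
      exact absurd hprime (by norm_num)
    · apply Subtype.ext
      funext g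
      have : g ∈ K := by rw [h]; trivial
      exact this

end Cfsg.Agent.Lib.Helper20.M11
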