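import Mathlib

set_option autoImplicit false
set_option linter.unusedSectionVars false
set_option linter.unusedVariables false
set_option linter.style.haveILetI false

namespace Cfsg.Agent.Lib.Helper20.M11

theorem sylow_arith {G : Type*} [Group G] [Finite G] (p : ℕ) [hp : Fact p.Prime] (P : Sylow p G)
    (hP : Nat.card P = p) :
    (Subgroup.centralizer ((P : Subgroup G) : Set G)).relIndex
        (Subgroup.normalizer ((P : Subgroup G) : Set G)) ∣ p - 1 ∧
    ∃ n : ℕ, n % p = 1 ∧ Nat.card G =
      n * (Subgroup.centralizer ((P : Subgroup G) : Set G)).relIndex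
        (Subgroup.normalizer ((P : Subgroup G) : Set G)) *
        Nat.card (Subgroup.centralizer ((P : Subgroup G) : Set G)) := by
  constructor
  · have hcyc : IsCyclic (P : Subgroup G) := isCyclic_of_prime_card hP
    have key := Subgroup.card_dvd_of_injective _
      (QuotientGroup.kerLift_injective (P : Subgroup G).normalizerMonoidHom)
    rw [Subgroup.normalizerMonoidHom_ker, ← Subgroup.index, ← Subgroup.relIndex] at key
    rw [hcyc.card_mulAut, show Nat.card (P : Subgroup G) = p from hP,
      Nat.totient_prime hp.out] at key
    exact key
  · refine ⟨Nat.card (Sylow p G), ?_, ?_⟩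
    · have h := card_sylow_modEq_one p G
      have h1 : 1 % p = 1 := Nat.mod_eq_of_lt hp.out.one_lt
      rw [Nat.ModEq, h1] at h
      exact h
    · rw [Sylow.card_eq_index_normalizer P]
      have h1 := Subgroup.relIndex_mul_index
        (Subgroup.centralizer_le_normalizer ((P : Subgroup G) : Set G))
      have h2 : (Subgroup.normalizer (P : Set G)).index
          = (Subgroup.normalizer ((P : Subgroup G) : Set G)).index := rfl
      rw [h2, mul_comm (Subgroup.index _), h1, mul_comm, Subgroup.card_mul_index]

end Cfsg.Agent.Lib.Helper20.M11
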