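import Cfsg.Agent.Lib.Helper79.NAverage
import Cfsg.Agent.Lib.Helper82.Linear

set_option autoImplicit false
set_option linter.unusedSectionVars false
set_option linter.unusedVariables false
set_option linter.style.haveILetI false

open Cfsg Cfsg.Agent.Lib.Helper82 Cfsg.Agent.Lib.Helper79
open scoped ComplexConjugate

namespace Cfsg.Agent.Lib.Helper20.M11

theorem le_centralizer_of_card_prime {G : Type*} [Group G] (p : ℕ) [Fact p.Prime]
    (P : Subgroup G) (hP : Nat.card P = p) : P ≤ Subgroup.centralizer (P : Set G) := by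
  haveI : IsCyclic P := isCyclic_of_prime_card hP
  intro x hx
  rw [Subgroup.mem_centralizer_iff]
  intro y hy
  have h := IsCyclic.commGroup.mul_comm (⟨y, hy⟩ : P) ⟨x, hx⟩
  exact congrArg Subtype.val h

theorem avg_char {G : Type*} [Group G] [Finite G] (p : ℕ) [Fact p.Prime]
    (P : Subgroup G) (hP : Nat.card P = p) (χ : G → ℂ) (hχ : IsCharacter G χ) (c : ℂ)
    (hval : ∀ x : G, x ∈ P → x ≠ 1 → ∀ y : G, y ∈ Subgroup.centralizer (P : Set G) →
      ¬ p ∣ orderOf y → χ (x * y) = c) :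
    ∃ ψ : Subgroup.centralizer (P : Set G) → ℂ, IsCharacter _ ψ ∧
      ∀ (y : G) (hy : y ∈ Subgroup.centralizer (P : Set G)), ¬ p ∣ orderOf y →
        ψ ⟨y, hy⟩ = (χ y + ((p : ℂ) - 1) * c) / p := by
  classical
  haveI := Fintype.ofFinite G
  have hle := le_centralizer_of_card_prime p P hP
  set H := Subgroup.centralizer (P : Set G) with hH
  haveI hn : (P.subgroupOf H).Normal := by
    constructor
    intro n hn g
    rw [Subgroup.mem_subgroupOf] at hn ⊢
    have h1 : (g : G) * (n : G) = (n : G) * (g : G) :=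
      ((Subgroup.mem_centralizer_iff.1 g.2) _ hn).symm
    have h2 : ((g * n * g⁻¹ : H) : G) = (n : G) := by
      push_cast
      rw [h1, mul_assoc, mul_inv_cancel, mul_one]
    rw [h2]; exact hn
  haveI : Fintype (P.subgroupOf H) := Fintype.ofFinite _
  haveI : Fintype P := Fintype.ofFinite _
  refine ⟨navg (P.subgroupOf H) (fun h : H => χ h),
    navg_isCharacter _ (Cfsg.Agent.Lib.Helper20.isCharacter_restrict hχ H), ?_⟩
  intro y hy hyp
  unfold navg
  have hcard : Nat.card (P.subgroupOf H) = p := by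
    rw [Nat.card_congr (Subgroup.subgroupOfEquivOfLe hle).toEquiv, hP]
  rw [hcard]
  have hsum : ∑ n : P.subgroupOf H, χ (((n : H) * (⟨y, hy⟩ : H) : H) : G)
      = ∑ x : P, χ ((x : G) * y) := by
    apply Fintype.sum_equiv (Subgroup.subgroupOfEquivOfLe hle).toEquiv
    intro n
    rfl
  rw [hsum]
  have hsplit : ∑ x : P, χ ((x : G) * y) = χ y + ((p : ℂ) - 1) * c := by
    rw [← Finset.add_sum_erase Finset.univ _ (Finset.mem_univ (1 : P))]
    have h1 : ∀ x ∈ Finset.univ.erase (1 : P), χ ((x : G) * y) = c := by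
      intro x hx
      apply hval x x.2 _ y hy hyp
      intro h
      exact (Finset.ne_of_mem_erase hx) (Subtype.ext h)
    rw [Finset.sum_congr rfl h1, Finset.sum_const, Finset.card_erase_of_mem (Finset.mem_univ _),
      Finset.card_univ, ← Nat.card_eq_fintype_card, hP]
    have hp1 : 1 ≤ p := (Fact.out : p.Prime).one_lt.le
    simp [Nat.cast_sub hp1]
  rw [hsplit]
  field_simp

theorem value_of_deg_pred {G : Type*} [Group G] [Finite G] (p : ℕ) [Fact p.Prime]
    (P : Subgroup G) (hP : Nat.card P = p) (χ : G → ℂ) (hχ : IsCharacter G χ)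
    (hdeg : charDegree χ = p - 1)
    (hval : ∀ x : G, x ∈ P → x ≠ 1 → ∀ y : G, y ∈ Subgroup.centralizer (P : Set G) →
      ¬ p ∣ orderOf y → χ (x * y) = -1)
    (y : G) (hy : y ∈ Subgroup.centralizer (P : Set G)) (hyp : ¬ p ∣ orderOf y) :
    χ y = (charDegree χ : ℂ) := by
  have hp : p.Prime := Fact.out
  have hp0 : (p : ℂ) ≠ 0 := Nat.cast_ne_zero.2 hp.ne_zero
  obtain ⟨ψ, hψ, hv⟩ := avg_char p P hP χ hχ (-1) hval
  have hp1 : ¬ p ∣ orderOf (1 : G) := by
    rw [orderOf_one]; exact hp.one_lt.ne' ∘ Nat.dvd_one.1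
  have hd : (charDegree χ : ℂ) = (p : ℂ) - 1 := by
    rw [hdeg, Nat.cast_sub hp.one_lt.le]; simp
  have h1 : ψ 1 = 0 := by
    have := hv 1 (Subgroup.one_mem _) hp1
    rw [isChar_one_eq hχ, hd] at this
    rw [show (1 : Subgroup.centralizer (P : Set G)) = ⟨1, Subgroup.one_mem _⟩ from rfl, this]
    ring
  have h2 := Cfsg.Agent.Lib.Helper20.isCharacter_norm_le hψ ⟨y, hy⟩
  rw [h1] at h2
  have h3 : ψ ⟨y, hy⟩ = 0 := by
    have : ‖ψ ⟨y, hy⟩‖ ≤ 0 := by simpa using h2
    exact norm_le_zero_iff.1 this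
  rw [hv y hy hyp, div_eq_zero_iff] at h3
  rcases h3 with h3 | h3
  · rw [hd]; linear_combination h3
  · exact absurd h3 hp0

theorem norm_of_deg_eq {G : Type*} [Group G] [Finite G] (p : ℕ) [Fact p.Prime]
    (P : Subgroup G) (hP : Nat.card P = p) (χ : G → ℂ) (hχ : IsCharacter G χ)
    (hdeg : charDegree χ = p)
    (hval : ∀ x : G, x ∈ P → x ≠ 1 → ∀ y : G, y ∈ Subgroup.centralizer (P : Set G) →
      ¬ p ∣ orderOf y → χ (x * y) = 0)
    (y : G) (hy : y ∈ Subgroup.centralizer (P : Set G)) (hyp : ¬ p ∣ orderOf y) :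
    ‖χ y‖ = (charDegree χ : ℝ) := by
  have hp : p.Prime := Fact.out
  have hp0 : (p : ℂ) ≠ 0 := Nat.cast_ne_zero.2 hp.ne_zero
  obtain ⟨ψ, hψ, hv⟩ := avg_char p P hP χ hχ 0 hval
  have hp1 : ¬ p ∣ orderOf (1 : G) := by
    rw [orderOf_one]; exact hp.one_lt.ne' ∘ Nat.dvd_one.1
  have h1 : ψ 1 = 1 := by
    have := hv 1 (Subgroup.one_mem _) hp1
    rw [isChar_one_eq hχ, hdeg] at this
    rw [show (1 : Subgroup.centralizer (P : Set G)) = ⟨1, Subgroup.one_mem _⟩ from rfl, this]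
    field_simp
    ring
  have h2 := isChar_linear_mul_conj hψ h1 ⟨y, hy⟩
  have h3 : ‖ψ ⟨y, hy⟩‖ = 1 := by
    rw [Complex.mul_conj] at h2
    have h4 : Complex.normSq (ψ ⟨y, hy⟩) = 1 := by exact_mod_cast h2
    rw [Complex.normSq_eq_norm_sq] at h4
    have h5 := norm_nonneg (ψ ⟨y, hy⟩)
    nlinarith
  rw [hv y hy hyp, mul_zero, add_zero, norm_div] at h3
  have h6 : ‖(p : ℂ)‖ = (p : ℝ) := by simp
  rw [h6] at h3
  have hp0' : (p : ℝ) ≠ 0 := Nat.cast_ne_zero.2 hp.ne_zero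
  rw [hdeg]
  field_simp at h3
  linarith

end Cfsg.Agent.Lib.Helper20.M11
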