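import Mathlib

set_option autoImplicit false
set_option linter.unusedSectionVars false
set_option linter.unusedVariables false
set_option linter.style.haveILetI false

namespace Cfsg.Agent.Lib.Helper20.M11

theorem le_centralizer_of_card_prime' {G : Type*} [Group G] (p : ℕ) [Fact p.Prime]
    (P : Subgroup G) (hP : Nat.card P = p) : P ≤ Subgroup.centralizer (P : Set G) := by
  haveI : IsCyclic P := isCyclic_of_prime_card hP
  intro x hx
  rw [Subgroup.mem_centralizer_iff]
  intro y hy
  have h := IsCyclic.commGroup.mul_comm (⟨y, hy⟩ : P) ⟨x, hx⟩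
  exact congrArg Subtype.val h

theorem card_centralizer_of_regular {G : Type*} [Group G] [Finite G] (p : ℕ) [hp : Fact p.Prime]
    (P : Sylow p G) (hP : Nat.card P = p)
    (h : ∀ y : G, y ∈ Subgroup.centralizer ((P : Subgroup G) : Set G) → ¬ p ∣ orderOf y → y = 1) :
    Nat.card (Subgroup.centralizer ((P : Subgroup G) : Set G)) = p := by
  have hpg : IsPGroup p (Subgroup.centralizer ((P : Subgroup G) : Set G)) := by
    intro c
    obtain ⟨k, m, hm, hkm⟩ := Nat.exists_eq_pow_mul_and_not_dvd (orderOf_pos (c : G)).ne' p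
      hp.out.ne_one
    refine ⟨k, ?_⟩
    have h1 : orderOf ((c : G) ^ (p ^ k)) = m := by
      rw [orderOf_pow' _ (pow_ne_zero _ hp.out.ne_zero), hkm,
        Nat.gcd_eq_right (Dvd.intro _ rfl)]
      exact Nat.mul_div_cancel_left _ (pow_pos hp.out.pos _)
    have h2 := h _ (Subgroup.pow_mem _ c.2 _) (by rw [h1]; exact hm)
    exact Subtype.ext (by simpa using h2)
  have hle := le_centralizer_of_card_prime' p (P : Subgroup G) hP
  have heq := P.is_maximal' hpg hle
  rw [heq]
  exact hP

theorem no_commuting {G : Type*} [Group G] [Finite G] (p : ℕ) [hp : Fact p.Prime] (P : Sylow p G)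
    (hP : Nat.card P = p)
    (h : ∀ y : G, y ∈ Subgroup.centralizer ((P : Subgroup G) : Set G) → ¬ p ∣ orderOf y → y = 1)
    (z y : G) (hz : orderOf z = p) (hzy : Commute z y) (hy : ¬ p ∣ orderOf y) : y = 1 := by
  have hpg : IsPGroup p (Subgroup.zpowers z) := by
    apply IsPGroup.of_card (n := 1)
    rw [Nat.card_zpowers, hz, pow_one]
  obtain ⟨Q, hQ⟩ := hpg.exists_le_sylow
  have hcQ : Nat.card Q = p := by
    rw [Sylow.card_eq_multiplicity, ← Sylow.card_eq_multiplicity P]; exact hP
  have hzQ : Subgroup.zpowers z = (Q : Subgroup G) := by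
    apply Subgroup.eq_of_le_of_card_ge hQ
    rw [Nat.card_zpowers, hz]; exact hcQ.le
  obtain ⟨g, hg⟩ := MulAction.exists_smul_eq G Q P
  have hmem : g * y * g⁻¹ ∈ Subgroup.centralizer ((P : Subgroup G) : Set G) := by
    rw [Subgroup.mem_centralizer_iff]
    intro x hx
    have hx' : x ∈ ((g • Q : Sylow p G) : Subgroup G) := by rw [hg]; exact hx
    rw [Sylow.coe_subgroup_smul, Subgroup.mem_pointwise_smul_iff_inv_smul_mem] at hx'
    rw [← hzQ] at hx'
    obtain ⟨k, hk⟩ := Subgroup.mem_zpowers_iff.1 hx'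
    have hx2 : x = g * z ^ k * g⁻¹ := by
      rw [hk]
      simp [MulAut.smul_def, mul_assoc]
    have hc : z ^ k * y = y * z ^ k := (hzy.zpow_left k).eq
    rw [hx2]
    calc g * z ^ k * g⁻¹ * (g * y * g⁻¹) = g * (z ^ k * y) * g⁻¹ := by group
      _ = g * (y * z ^ k) * g⁻¹ := by rw [hc]
      _ = g * y * g⁻¹ * (g * z ^ k * g⁻¹) := by group
  have hord : orderOf (g * y * g⁻¹) = orderOf y := by
    have := orderOf_injective (MulAut.conj g).toMonoidHom (MulAut.conj g).injective y
    simpa [MulAut.conj_apply] using this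
  have h1 := h _ hmem (by rw [hord]; exact hy)
  have h2 : g * y * g⁻¹ = g * 1 * g⁻¹ := by rw [h1]; group
  exact mul_left_cancel (mul_right_cancel h2)

end Cfsg.Agent.Lib.Helper20.M11
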