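import Cfsg.Agent.S0953
import Cfsg.Agent.Lib.Helper21.PSolvBlock
import Cfsg.Agent.Lib.Helper80.BlockBasic

set_option autoImplicit false
set_option linter.unusedSectionVars false
set_option linter.unusedVariables false
set_option linter.style.haveILetI false

open Cfsg Cfsg.Agent.Lib.Helper81 Cfsg.Agent.Lib.Helper80 Cfsg.Agent.Lib.Helper21

namespace Cfsg.Agent.Lib.Helper20.M11

theorem blockDefect_full_of_not_dvd {G : Type*} [Group G] [Finite G] (p : ℕ) [Fact p.Prime]
    (B : Set (IrrCharacter G)) (χ : IrrCharacter G) (hχB : χ ∈ B)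
    (hχ : ¬ p ∣ charDegree (χ : G → ℂ)) :
    blockDefect p B = (Nat.card G).factorization p := by
  unfold blockDefect
  have h0 : sInf ((fun χ : IrrCharacter G => (charDegree (χ : G → ℂ)).factorization p) '' B)
      = 0 := by
    apply Nat.eq_zero_of_le_zero
    apply Nat.sInf_le
    exact ⟨χ, hχB, Nat.factorization_eq_zero_of_not_dvd hχ⟩
  rw [h0, Nat.sub_zero]

theorem mem_principalBlock_of_not_dvd {G : Type*} [Group G] [Finite G] (p : ℕ) [Fact p.Prime]
    (M : Ideal AlgInt) (hM : IsPModular p M) (P : Sylow p G)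
    (h : ∀ y : G, y ∈ Subgroup.centralizer ((P : Subgroup G) : Set G) → ¬ p ∣ orderOf y → y = 1)
    (χ : IrrCharacter G) (hχ : ¬ p ∣ charDegree (χ : G → ℂ)) : χ ∈ principalBlock M G := by
  classical
  haveI := Fintype.ofFinite G
  have hp : p.Prime := Fact.out
  have hcount := Cfsg.Agent.S0953.result p M hM P
  have hsub : Subsingleton {C : ConjClasses (Subgroup.normalizer ((P : Subgroup G) : Set G)) //
      ∀ n : Subgroup.normalizer ((P : Subgroup G) : Set G), ConjClasses.mk n = C →
        ¬ p ∣ orderOf n ∧ (n : G) ∈ Subgroup.centralizer ((P : Subgroup G) : Set G)} := by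
    have key : ∀ C : {C : ConjClasses (Subgroup.normalizer ((P : Subgroup G) : Set G)) //
      ∀ n : Subgroup.normalizer ((P : Subgroup G) : Set G), ConjClasses.mk n = C →
        ¬ p ∣ orderOf n ∧ (n : G) ∈ Subgroup.centralizer ((P : Subgroup G) : Set G)},
        C.1 = ConjClasses.mk 1 := by
      rintro ⟨C, hC⟩
      obtain ⟨n, rfl⟩ := ConjClasses.mk_surjective C
      obtain ⟨h1, h2⟩ := hC n rfl
      have h3 : (n : G) = 1 := h _ h2 (by rwa [Subgroup.orderOf_coe])
      have h4 : n = 1 := Subtype.ext h3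
      show ConjClasses.mk n = ConjClasses.mk 1
      rw [h4]
    constructor
    intro a b
    apply Subtype.ext
    rw [key a, key b]
  have hle : Nat.card {B : Set (IrrCharacter G) // IsPBlock M B ∧
      IsDefectGroup p M B (P : Subgroup G)} ≤ 1 := by
    rw [hcount]
    exact Finite.card_le_one_iff_subsingleton.2 hsub
  haveI : Finite {B : Set (IrrCharacter G) // IsPBlock M B ∧
      IsDefectGroup p M B (P : Subgroup G)} := by
    haveI : Finite (IrrCharacter G) := Cfsg.Agent.Lib.Helper82.finite_irrCharacter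
    exact Subtype.finite
  have hsub2 := Finite.card_le_one_iff_subsingleton.1 hle
  have hB1 : IsPBlock M (blockOf M (χ : G → ℂ)) := ⟨χ, rfl⟩
  have hB0 : IsPBlock M (principalBlock M G) := isPBlock_principal M
  have hd1 := (isDefectGroup_sylow_of_full hM _ hB1
    (blockDefect_full_of_not_dvd p _ χ (mem_blockOf_self hM χ) hχ)).1 P
  have htriv : ¬ p ∣ charDegree ((trivIrr G : IrrCharacter G) : G → ℂ) := by
    have : charDegree ((trivIrr G : IrrCharacter G) : G → ℂ) = 1 := by
      simp [charDegree, trivIrr]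
    rw [this]
    exact hp.one_lt.ne' ∘ Nat.dvd_one.1
  have hd0 := (isDefectGroup_sylow_of_full hM _ hB0
    (blockDefect_full_of_not_dvd p _ (trivIrr G) (trivIrr_mem_principalBlock hM) htriv)).1 P
  have heq := hsub2.elim ⟨_, hB1, hd1⟩ ⟨_, hB0, hd0⟩
  have heq' : blockOf M (χ : G → ℂ) = principalBlock M G := congrArg Subtype.val heq
  rw [← heq']
  exact mem_blockOf_self hM χ

end Cfsg.Agent.Lib.Helper20.M11
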