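import Cfsg.Agent.Lib.Helper81.Osima
import Cfsg.Agent.Lib.Helper82.Basic

set_option autoImplicit false
set_option linter.unusedSectionVars false
set_option linter.unusedVariables false
set_option linter.style.haveILetI false

open Cfsg Cfsg.Agent.Lib.Helper82 Cfsg.Agent.Lib.Helper81

namespace Cfsg.Agent.Lib.Helper20.M11

theorem deg_dvd_index_centralizer {G : Type*} [Group G] [Finite G] (χ : IrrCharacter G) (g : G)
    (h : (χ : G → ℂ) g = 1 ∨ (χ : G → ℂ) g = -1) :
    charDegree (χ : G → ℂ) ∣ (Subgroup.centralizer ({g} : Set G)).index := by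
  classical
  haveI := Fintype.ofFinite G
  have hint := centralChar_isIntegral χ g
  unfold centralChar at hint
  rw [isChar_one_eq (isIrr_isChar χ.2)] at hint
  set k := (Subgroup.centralizer ({g} : Set G)).index with hk
  set n := charDegree (χ : G → ℂ) with hn
  have hn0 : n ≠ 0 := (isIrr_charDegree_pos χ.2).ne'
  have hint2 : IsIntegral ℤ ((k : ℂ) / (n : ℂ)) := by
    rcases h with h | h
    · rw [h, mul_one] at hint; exact hint
    · rw [h] at hint
      have := hint.neg
      convert this using 1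
      ring
  have hq : IsIntegral ℤ ((k : ℚ) / (n : ℚ)) := by
    have h1 : ((k : ℂ) / (n : ℂ)) = algebraMap ℚ ℂ ((k : ℚ) / (n : ℚ)) := by
      simp
    rw [h1] at hint2
    exact (isIntegral_algebraMap_iff (algebraMap ℚ ℂ).injective).1 hint2
  obtain ⟨z, hz⟩ := IsIntegrallyClosed.isIntegral_iff.1 hq
  have hz' : (z : ℚ) = (k : ℚ) / (n : ℚ) := by simpa using hz
  have hn0' : (n : ℚ) ≠ 0 := Nat.cast_ne_zero.2 hn0
  have h2 : (z : ℚ) * n = k := by rw [hz']; field_simp
  have h3 : z * (n : ℤ) = (k : ℤ) := by exact_mod_cast h2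
  have h4 : (n : ℤ) ∣ (k : ℤ) := ⟨z, by rw [← h3]; ring⟩
  exact_mod_cast h4

end Cfsg.Agent.Lib.Helper20.M11
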