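import Mathlib

set_option autoImplicit false

namespace Cfsg.Agent.Lib.Helper20

open Classical in
/-- ORBIT SUM LEMMA.  A `p`-group `P` acts on a finite set `X`, `φ` is a `P`-invariant function with
values in an additive subgroup `S`.  Then the sum of `φ` over `X` equals the sum over the fixed
points plus `p • a` for some `a ∈ S`. -/
theorem orbit_sum {p : ℕ} [Fact p.Prime] {P : Type*} [Group P] (hP : IsPGroup p P)
    {X : Type*} [Fintype X] [MulAction P X] {A : Type*} [AddCommGroup A] (S : AddSubgroup A)
    (φ : X → A) (hφ : ∀ (u : P) (x : X), φ (u • x) = φ x) (hS : ∀ x, φ x ∈ S) :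
    ∃ a ∈ S, ∑ x, φ x =
      ∑ x ∈ Finset.univ.filter (fun x => x ∈ MulAction.fixedPoints P X), φ x + p • a := by
  set t : Finset A := Finset.univ.image φ with ht
  set F : Finset X := Finset.univ.filter (fun x => x ∈ MulAction.fixedPoints P X) with hF
  have hsum : ∀ s : Finset X, ∑ x ∈ s, φ x = ∑ b ∈ t, (s.filter (fun x => φ x = b)).card • b := by
    intro s
    rw [← Finset.sum_fiberwise_of_maps_to (s := s) (t := t) (g := φ)
      (fun i _ => Finset.mem_image_of_mem φ (Finset.mem_univ i)) φ]
    apply Finset.sum_congr rfl
    intro b _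
    rw [Finset.sum_congr rfl (g := fun _ => b), Finset.sum_const]
    intro x hx
    exact (Finset.mem_filter.1 hx).2
  have hmod : ∀ b : A, ∃ k : ℕ, ((Finset.univ : Finset X).filter (fun x => φ x = b)).card =
      (F.filter (fun x => φ x = b)).card + p * k := by
    intro b
    let Xb := {x : X // φ x = b}
    let act : MulAction P Xb :=
      { smul := fun u x => ⟨u • x.1, (hφ u x.1).trans x.2⟩
        one_smul := fun x => Subtype.ext (one_smul P x.1)
        mul_smul := fun u v x => Subtype.ext (mul_smul u v x.1) }
    have h1 := hP.card_modEq_card_fixedPoints Xb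
    have e1 : Nat.card Xb = ((Finset.univ : Finset X).filter (fun x => φ x = b)).card := by
      rw [Nat.card_eq_fintype_card, Fintype.card_subtype]
    have e2 : Nat.card (MulAction.fixedPoints P Xb) = (F.filter (fun x => φ x = b)).card := by
      have e3 : MulAction.fixedPoints P Xb ≃ {x : X // x ∈ F.filter (fun x => φ x = b)} :=
        { toFun := fun w => ⟨w.1.1, by
            rw [Finset.mem_filter, hF, Finset.mem_filter]
            refine ⟨⟨Finset.mem_univ _, ?_⟩, w.1.2⟩
            intro u
            exact congrArg Subtype.val (w.2 u)⟩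
          invFun := fun w => ⟨⟨w.1, (Finset.mem_filter.1 w.2).2⟩, by
            intro u
            apply Subtype.ext
            have h5 : w.1 ∈ F := (Finset.mem_filter.1 w.2).1
            exact (Finset.mem_filter.1 h5).2 u⟩
          left_inv := fun w => rfl
          right_inv := fun w => rfl }
      rw [Nat.card_congr e3, Nat.card_eq_fintype_card, Fintype.card_coe]
    rw [e1, e2] at h1
    have hle : (F.filter (fun x => φ x = b)).card ≤
        ((Finset.univ : Finset X).filter (fun x => φ x = b)).card :=
      Finset.card_le_card (Finset.filter_subset_filter _ (Finset.subset_univ _))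
    obtain ⟨k, hk⟩ := (Nat.modEq_iff_dvd' hle).1 h1.symm
    exact ⟨k, by omega⟩
  choose k hk using hmod
  refine ⟨∑ b ∈ t, k b • b, ?_, ?_⟩
  · apply AddSubgroup.sum_mem
    intro b hb
    obtain ⟨x, _, rfl⟩ := Finset.mem_image.1 hb
    exact S.nsmul_mem (hS x) _
  · rw [hsum Finset.univ, hsum F, Finset.smul_sum, ← Finset.sum_add_distrib]
    apply Finset.sum_congr rfl
    intro b _
    rw [hk b, add_smul, mul_smul]

end Cfsg.Agent.Lib.Helper20
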