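import Cfsg.Agent.Lib.Helper20.HeightZero
import Cfsg.Agent.Lib.Helper21.Cover3
import Cfsg.Agent.Lib.Helper81.SecondMain3
import Cfsg.Agent.Lib.Helper81.Heights
import Cfsg.Agent.Lib.Helper81.Vanish
import Cfsg.Agent.Lib.Helper19.NormalKer

set_option autoImplicit false
set_option linter.unusedSectionVars false
set_option linter.style.haveILetI false

/-!
# Blocks of `G = P C_G(P)` with defect group `P` (Navarro 9.12)
-/

namespace Cfsg.Agent.Lib.Helper20

open Cfsg Cfsg.Agent.Lib.Helper81 Cfsg.Agent.Lib.Helper19 Cfsg.Agent.Lib.Helper21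
open scoped ComplexConjugate

variable {G : Type*} [Group G] [Fintype G] {p : ℕ} {P : Subgroup G}

theorem normal_of_sup_centralizer (hG : P ⊔ Subgroup.centralizer (P : Set G) = ⊤) : P.Normal := by
  rw [← Subgroup.normalizer_eq_top_iff, eq_top_iff, ← hG]
  exact sup_le Subgroup.le_normalizer (Subgroup.centralizer_le_normalizer _)

theorem exists_mul_of_sup (hG : P ⊔ Subgroup.centralizer (P : Set G) = ⊤) (g : G) :
    ∃ u ∈ P, ∃ c ∈ Subgroup.centralizer (P : Set G), g = u * c := by
  haveI := normal_of_sup_centralizer hG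
  have h1 : g ∈ ((P ⊔ Subgroup.centralizer (P : Set G) : Subgroup G) : Set G) := by
    rw [hG]; trivial
  rw [Subgroup.normal_mul] at h1
  obtain ⟨u, hu, c, hc, e⟩ := Set.mem_mul.1 h1
  exact ⟨u, hu, c, hc, e.symm⟩

theorem index_centralizer_of_sup (hp : p.Prime) (hP : IsPGroup p P)
    (hG : P ⊔ Subgroup.centralizer (P : Set G) = ⊤) :
    ∃ k : ℕ, (Subgroup.centralizer (P : Set G)).index = p ^ k := by
  haveI := normal_of_sup_centralizer hG
  haveI : Fact p.Prime := ⟨hp⟩
  have h1 : (Subgroup.centralizer (P : Set G)).relIndex (P ⊔ Subgroup.centralizer (P : Set G))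
      = (Subgroup.centralizer (P : Set G)).relIndex P := Subgroup.relIndex_sup_right _ _
  rw [hG, Subgroup.relIndex_top_right] at h1
  obtain ⟨n, hn⟩ := IsPGroup.iff_card.1 hP
  have h2 : (Subgroup.centralizer (P : Set G)).relIndex P ∣ p ^ n := by
    rw [← hn]; exact Subgroup.relIndex_dvd_card _ _
  obtain ⟨k, -, hk⟩ := (Nat.dvd_prime_pow hp).1 h2
  exact ⟨k, by rw [h1, hk]⟩

theorem mem_centralizer_of_regular (hp : p.Prime) (hP : IsPGroup p P)
    (hG : P ⊔ Subgroup.centralizer (P : Set G) = ⊤) {y : G} (hy : ¬ p ∣ orderOf y) :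
    y ∈ Subgroup.centralizer (P : Set G) := by
  haveI := normal_of_sup_centralizer hG
  by_contra h
  exact hy (dvd_orderOf_of_not_mem hp (index_centralizer_of_sup hp hP hG) h)

/-- product formula. -/
theorem char_mul_of_sup (hG : P ⊔ Subgroup.centralizer (P : Set G) = ⊤) {χ : G → ℂ}
    (hχ : IsIrrCharacter G χ) {u y : G} (hu : u ∈ P)
    (hy : y ∈ Subgroup.centralizer (P : Set G)) : χ (u * y) * χ 1 = χ u * χ y := by
  haveI := normal_of_sup_centralizer hG
  have hGc : (Nat.card G : ℂ) ≠ 0 := card_ne_zero_complex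
  have h10 := Cfsg.Agent.Lib.Helper81.irr_one_ne_zero hχ
  have hcl := isClassFunction_of_isCharacter (isCharacter_of_isIrrCharacter hχ)
  have h1 := sum_char_conj_mul hχ y u
  have h2 : ∀ t : G, χ (y * (t * u * t⁻¹)) = χ (u * y) := by
    intro t
    obtain ⟨v, hv, c, hc, rfl⟩ := exists_mul_of_sup hG t
    have e1 : c * u = u * c := (Subgroup.mem_centralizer_iff.1 hc u hu).symm
    have e2 : y * v = v * y := (Subgroup.mem_centralizer_iff.1 hy v hv).symm
    have e3 : y * u = u * y := (Subgroup.mem_centralizer_iff.1 hy u hu).symm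
    have e4 : y * (v * c * u * (v * c)⁻¹) = v * (u * y) * v⁻¹ := by
      have : v * c * u * (v * c)⁻¹ = v * u * v⁻¹ := by
        rw [mul_assoc v c u, e1]; group
      rw [this, ← mul_assoc, ← mul_assoc, e2, mul_assoc v y u, e3]
    rw [e4, hcl]
  rw [Finset.sum_congr rfl (fun t _ => h2 t), Finset.sum_const, Finset.card_univ, nsmul_eq_mul,
    ← Nat.card_eq_fintype_card] at h1
  have h3 : χ (u * y) = χ y * χ u / χ 1 := by
    apply mul_left_cancel₀ hGc
    rw [h1]; ring
  rw [h3]
  field_simp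

theorem isPPart_of_regular (hp : p.Prime) (hP : IsPGroup p P)
    (hG : P ⊔ Subgroup.centralizer (P : Set G) = ⊤) {u g : G} (hu : u ∈ P)
    (hy : ¬ p ∣ orderOf (u⁻¹ * g)) : IsPPart p g u := by
  have hc := mem_centralizer_of_regular hp hP hG hy
  refine ⟨u⁻¹ * g, by group, (Subgroup.mem_centralizer_iff.1 hc u hu), ?_, hy⟩
  obtain ⟨k, hk⟩ := hP ⟨u, hu⟩
  have h1 : u ^ p ^ k = 1 := by
    have := congrArg Subtype.val hk
    simpa using this
  obtain ⟨j, -, hj⟩ := (Nat.dvd_prime_pow hp).1 (orderOf_dvd_of_pow_eq_one h1)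
  exact ⟨j, hj⟩

/-- counting lemma. -/
theorem sum_regular_eq [Fintype P] (hp : p.Prime) (hP : IsPGroup p P)
    (hG : P ⊔ Subgroup.centralizer (P : Set G) = ⊤) (g : G)
    [Decidable (∃ x ∈ P, IsPPart p g x)] [DecidablePred fun y : G => IsPRegular p y] :
    (∑ u : P, if IsPRegular p ((u : G)⁻¹ * g) then (1 : ℂ) else 0)
      = if ∃ x ∈ P, IsPPart p g x then 1 else 0 := by
  classical
  split_ifs with h
  · obtain ⟨x, hx, hpp⟩ := h
    rw [Finset.sum_eq_single (⟨x, hx⟩ : P)]
    · obtain ⟨y, e, -, -, hy⟩ := hpp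
      have : x⁻¹ * g = y := by rw [← e]; group
      rw [if_pos]
      show ¬ p ∣ orderOf (x⁻¹ * g)
      rw [this]; exact hy
    · intro u _ hne
      rw [if_neg]
      intro hreg
      apply hne
      exact Subtype.ext (isPPart_unique hp (isPPart_of_regular hp hP hG u.2 hreg) hpp)
    · intro h; exact absurd (Finset.mem_univ _) h
  · apply Finset.sum_eq_zero
    intro u _
    rw [if_neg]
    intro hreg
    exact h ⟨u, u.2, isPPart_of_regular hp hP hG u.2 hreg⟩

/-- sum formula over the elements with `p`-part in `P`. -/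
theorem sum_sum_regular [Fintype P] (hp : p.Prime) (hP : IsPGroup p P)
    (hG : P ⊔ Subgroup.centralizer (P : Set G) = ⊤) (F : G → ℂ)
    (hF : ∀ g, (¬ ∃ x ∈ P, IsPPart p g x) → F g = 0)
    [DecidablePred fun y : G => IsPRegular p y] :
    ∑ u : P, ∑ y : G, (if IsPRegular p y then F ((u : G) * y) else 0) = ∑ g : G, F g := by
  classical
  have h1 : ∀ u : P, ∑ y : G, (if IsPRegular p y then F ((u : G) * y) else 0)
      = ∑ g : G, (if IsPRegular p ((u : G)⁻¹ * g) then (1 : ℂ) else 0) * F g := by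
    intro u
    rw [← Equiv.sum_comp (Equiv.mulLeft (u : G))
      (fun g => (if IsPRegular p ((u : G)⁻¹ * g) then (1 : ℂ) else 0) * F g)]
    apply Finset.sum_congr rfl
    intro y _
    simp only [Equiv.coe_mulLeft, inv_mul_cancel_left]
    split_ifs <;> simp
  rw [Finset.sum_congr rfl (fun u _ => h1 u), Finset.sum_comm]
  apply Finset.sum_congr rfl
  intro g _
  rw [← Finset.sum_mul, sum_regular_eq hp hP hG]
  split_ifs with h
  · rw [one_mul]
  · rw [hF g h, mul_zero]

end Cfsg.Agent.Lib.Helper20
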