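import Cfsg.Agent.Lib.Helper20.PCBlock
import Cfsg.Agent.Lib.Helper21.DefectBasic
import Cfsg.Agent.Lib.Helper21.DefectCard
import Cfsg.Agent.Lib.Helper82.CharKer

set_option autoImplicit false
set_option linter.unusedSectionVars false
set_option linter.style.haveILetI false

/-!
# Blocks of `G = P C_G(P)` with defect group `P` (Navarro 9.12), part 2
-/

namespace Cfsg.Agent.Lib.Helper20

open Cfsg Cfsg.Agent.Lib.Helper81 Cfsg.Agent.Lib.Helper19 Cfsg.Agent.Lib.Helper21
open scoped ComplexConjugate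

variable {G : Type*} [Group G] [Fintype G] {p : ℕ} [Fact p.Prime] {M : Ideal AlgInt}
  {P : Subgroup G} {B : Set (IrrCharacter G)}

/-- a normal defect group is the only defect group. -/
theorem defectGroup_eq_of_normal (hM : IsPModular p M) (hB : IsPBlock M B) [P.Normal]
    (hD : IsDefectGroup p M B P) {D : Subgroup G} (hD' : IsDefectGroup p M B D) : D = P := by
  have hP : IsPGroup p P := by
    rw [IsPGroup.iff_card]
    exact ⟨_, card_defectGroup hM B hB P hD⟩
  have h1 := normal_pSubgroup_le_defectGroup hM B hB D hD' P hP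
  symm
  apply Subgroup.eq_of_le_of_card_ge h1
  rw [card_defectGroup hM B hB P hD, card_defectGroup hM B hB D hD']

theorem vanish_of_normal_defectGroup (hM : IsPModular p M) (hB : IsPBlock M B) [P.Normal]
    (hD : IsDefectGroup p M B P) {χ : IrrCharacter G} (hχ : χ ∈ B) {g : G}
    (hg : ¬ ∃ x ∈ P, IsPPart p g x) : (χ : G → ℂ) g = 0 := by
  obtain ⟨x, hx⟩ := exists_isPPart (Fact.out : p.Prime) g
  apply vanish_off_defect_groups hM B hB hx _ χ hχ
  intro D hD' hxD
  rw [defectGroup_eq_of_normal hM hB hD hD'] at hxD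
  exact hg ⟨x, hxD, hx⟩

theorem irr_one_conj (χ : IrrCharacter G) : conj ((χ : G → ℂ) 1) = (χ : G → ℂ) 1 := by
  rw [irr_one_eq χ, Complex.conj_natCast]

/-- inner product formula. -/
theorem classInner_mul_of_sup [Fintype P] (hM : IsPModular p M) (hP : IsPGroup p P)
    (hG : P ⊔ Subgroup.centralizer (P : Set G) = ⊤) (hB : IsPBlock M B)
    (hD : IsDefectGroup p M B P) {χ χ' : IrrCharacter G} (hχ : χ ∈ B) :
    classInner (χ : G → ℂ) (χ' : G → ℂ) * ((χ : G → ℂ) 1 * (χ' : G → ℂ) 1)
      = (Nat.card P : ℂ) * classInner (fun u : P => (χ : G → ℂ) u) (fun u : P => (χ' : G → ℂ) u)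
        * mC p (χ : G → ℂ) (χ' : G → ℂ) := by
  classical
  haveI := normal_of_sup_centralizer hG
  have hp : p.Prime := Fact.out
  have hPc : (Nat.card P : ℂ) ≠ 0 := Cfsg.Agent.Lib.Helper19.card_ne_zero_complex P
  have h1 := sum_sum_regular hp hP hG (fun g => (χ : G → ℂ) g * conj ((χ' : G → ℂ) g))
    (fun g hg => by
      show (χ : G → ℂ) g * _ = 0
      rw [vanish_of_normal_defectGroup hM hB hD hχ hg, zero_mul])
  simp only [classInner, mC, pRegularPart_eq]
  rw [← h1]
  rw [mul_assoc (Nat.card P : ℂ), ← mul_assoc (Nat.card P : ℂ), ← mul_assoc (Nat.card P : ℂ),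
    mul_inv_cancel₀ hPc, one_mul]
  rw [mul_assoc, Finset.sum_mul, mul_left_comm, Finset.sum_mul]
  congr 1
  apply Finset.sum_congr rfl
  intro u _
  rw [Finset.sum_mul, Finset.mul_sum]
  apply Finset.sum_congr rfl
  intro y _
  by_cases hy : IsPRegular p y
  · rw [if_pos hy, if_pos hy]
    have hyC := mem_centralizer_of_regular hp hP hG hy
    have e1 := char_mul_of_sup hG χ.2 u.2 hyC
    have e2 := char_mul_of_sup hG χ'.2 u.2 hyC
    have e3 : conj ((χ' : G → ℂ) (u * y)) * (χ' : G → ℂ) 1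
        = conj ((χ' : G → ℂ) u) * conj ((χ' : G → ℂ) y) := by
      rw [← irr_one_conj χ', ← map_mul, e2, map_mul]
    calc (χ : G → ℂ) (u * y) * conj ((χ' : G → ℂ) (u * y)) * ((χ : G → ℂ) 1 * (χ' : G → ℂ) 1)
        = ((χ : G → ℂ) (u * y) * (χ : G → ℂ) 1)
          * (conj ((χ' : G → ℂ) (u * y)) * (χ' : G → ℂ) 1) := by ring
      _ = _ := by rw [e1, e3]; ring
  · rw [if_neg hy, if_neg hy]
    simp

/-- averaging over `P`. -/
theorem regular_eq_sum_ker [Fintype P] [Fintype (IrrCharacter G)] (hP : IsPGroup p P)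
    (hG : P ⊔ Subgroup.centralizer (P : Set G) = ⊤) (χ : IrrCharacter G) {y : G}
    (hy : IsPRegular p y) [DecidablePred fun ψ : IrrCharacter G => ∀ x ∈ P, (ψ : G → ℂ) x = (ψ : G → ℂ) 1] :
    (χ : G → ℂ) y = (Nat.card P : ℂ) * ∑ ψ : IrrCharacter G,
      if (∀ x ∈ P, (ψ : G → ℂ) x = (ψ : G → ℂ) 1) then
        mC p (χ : G → ℂ) (ψ : G → ℂ) * (ψ : G → ℂ) y else 0 := by
  classical
  haveI := normal_of_sup_centralizer hG
  have hp : p.Prime := Fact.out
  have hyC := mem_centralizer_of_regular hp hP hG hy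
  have h1 : ∑ u : P, pRegularPart p (χ : G → ℂ) ((u : G) * y) = (χ : G → ℂ) y := by
    rw [Finset.sum_eq_single (1 : P)]
    · rw [pRegularPart_eq]
      simp only [Subgroup.coe_one, one_mul]
      rw [if_pos hy]
    · intro u _ hu
      rw [pRegularPart_eq]
      show (if IsPRegular p ((u : G) * y) then _ else _) = _
      rw [if_neg]
      intro hreg
      apply hreg
      obtain ⟨k, hk⟩ := hP u
      have h2 : (u : G) ^ p ^ k = 1 := by
        have := congrArg Subtype.val hk
        simpa using this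
      obtain ⟨j, -, hj⟩ := (Nat.dvd_prime_pow hp).1 (orderOf_dvd_of_pow_eq_one h2)
      exact dvd_orderOf_mul_of_pGroup hp ⟨j, hj⟩ (fun h => hu (Subtype.ext h)) hy
        (Subgroup.mem_centralizer_iff.1 hyC u u.2)
    · intro h; exact absurd (Finset.mem_univ _) h
  rw [← h1, pRegularPart_eq_sum_mC]
  simp only [Finset.sum_apply, Pi.smul_apply, smul_eq_mul]
  rw [Finset.sum_comm, Finset.mul_sum]
  apply Finset.sum_congr rfl
  intro ψ _
  rw [← Finset.mul_sum]
  split_ifs with hk
  · have h3 : ∀ u : P, (ψ : G → ℂ) ((u : G) * y) = (ψ : G → ℂ) y := fun u =>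
      char_mul_of_ker (isCharacter_of_isIrrCharacter ψ.2) (hk u u.2) y
    rw [Finset.sum_congr rfl (fun u _ => h3 u), Finset.sum_const, Finset.card_univ, nsmul_eq_mul,
      ← Nat.card_eq_fintype_card]
    ring
  · rcases irr_ker_or_sum_zero P ψ.2 with h4 | h4
    · exact absurd h4 hk
    · rw [h4 y, mul_zero, mul_zero]

/-- the degree of a member of `B` with `P` in its kernel. -/
theorem factorization_degree_of_ker (hM : IsPModular p M) (hB : IsPBlock M B) [P.Normal]
    (hD : IsDefectGroup p M B P) {θ : IrrCharacter G} (hθ : θ ∈ B)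
    (hker : ∀ x ∈ P, (θ : G → ℂ) x = (θ : G → ℂ) 1) :
    (charDegree (θ : G → ℂ)).factorization p = P.index.factorization p := by
  have hp : p.Prime := Fact.out
  have hi : P.index ≠ 0 := Subgroup.index_ne_zero_of_finite
  apply le_antisymm
  · obtain ⟨ψ, hψ, e⟩ := Cfsg.Agent.Lib.Helper82.isIrr_deflate θ.2 P hker
    have h1 := Cfsg.Agent.Lib.Helper82.isIrr_charDegree_dvd_card hψ
    have h2 : charDegree ψ = charDegree (θ : G → ℂ) := by
      unfold charDegree
      rw [← e 1]
      rfl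
    rw [h2, ← Subgroup.index_eq_card] at h1
    exact (Nat.factorization_le_iff_dvd (charDegree_ne_zero θ) hi).2 h1 p
  · have c1 := card_defectGroup hM B hB P hD
    have d1 := blockDefect_add (p := p) (isPBlock_nonempty hM hB)
    have d2 := minDeg_le (p := p) hθ
    have d3 : (Nat.card G).factorization p = (Nat.card P).factorization p
        + P.index.factorization p := by
      rw [← P.card_mul_index, Nat.factorization_mul Nat.card_pos.ne' hi]
      rfl
    rw [c1, hp.factorization_pow, Finsupp.single_eq_same] at d3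
    unfold nuDeg at d2
    omega

theorem height_zero_of_ker (hM : IsPModular p M) (hB : IsPBlock M B) [P.Normal]
    (hD : IsDefectGroup p M B P) {θ : IrrCharacter G} (hθ : θ ∈ B)
    (hker : ∀ x ∈ P, (θ : G → ℂ) x = (θ : G → ℂ) 1) : blockHeight p B (θ : G → ℂ) = 0 := by
  have hp : p.Prime := Fact.out
  have hi : P.index ≠ 0 := Subgroup.index_ne_zero_of_finite
  have h0 := factorization_degree_of_ker hM hB hD hθ hker
  have c1 := card_defectGroup hM B hB P hD
  have d1 := blockDefect_add (p := p) (isPBlock_nonempty hM hB)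
  have d3 : (Nat.card G).factorization p = (Nat.card P).factorization p
      + P.index.factorization p := by
    rw [← P.card_mul_index, Nat.factorization_mul Nat.card_pos.ne' hi]
    rfl
  rw [c1, hp.factorization_pow, Finsupp.single_eq_same] at d3
  have d4 := blockHeight_add (p := p) hθ
  unfold nuDeg at d4
  omega

theorem mC_ne_zero_of_height_zero (hM : IsPModular p M) (hB : IsPBlock M B)
    {χ ψ : IrrCharacter G} (hχ : χ ∈ B) (hψ : ψ ∈ B) (h0 : blockHeight p B (χ : G → ℂ) = 0) :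
    mC p (ψ : G → ℂ) (χ : G → ℂ) ≠ 0 := by
  intro h
  have h1 := Sm_unit_of_height_zero hM hB hχ hψ h0
  rw [Sm_eq, h, mul_zero] at h1
  exact h1 (memLocalIdeal_zero hM)

/-- uniqueness of the canonical character. -/
theorem canonical_unique [Fintype P] (hM : IsPModular p M) (hP : IsPGroup p P)
    (hG : P ⊔ Subgroup.centralizer (P : Set G) = ⊤) (hB : IsPBlock M B)
    (hD : IsDefectGroup p M B P) {θ θ' : IrrCharacter G} (hθ : θ ∈ B) (hθ' : θ' ∈ B)
    (hker : ∀ x ∈ P, (θ : G → ℂ) x = (θ : G → ℂ) 1)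
    (hker' : ∀ x ∈ P, (θ' : G → ℂ) x = (θ' : G → ℂ) 1) : θ' = θ := by
  haveI := normal_of_sup_centralizer hG
  have hPc : (Nat.card P : ℂ) ≠ 0 := Cfsg.Agent.Lib.Helper19.card_ne_zero_complex P
  by_contra hne
  have h1 := classInner_mul_of_sup hM hP hG hB hD (χ := θ') (χ' := θ) hθ'
  rw [classInner_irr_ne θ'.2 θ.2 (fun e => hne (Subtype.ext e)), zero_mul] at h1
  have h2 := mC_ne_zero_of_height_zero hM hB hθ hθ' (height_zero_of_ker hM hB hD hθ hker)
  have h3 : classInner (fun u : P => (θ' : G → ℂ) u) (fun u : P => (θ : G → ℂ) u)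
      = (θ' : G → ℂ) 1 * (θ : G → ℂ) 1 := by
    simp only [classInner]
    have : ∀ u : P, (θ' : G → ℂ) u * conj ((θ : G → ℂ) u) = (θ' : G → ℂ) 1 * (θ : G → ℂ) 1 := by
      intro u
      rw [hker u u.2, hker' u u.2, irr_one_conj]
    rw [Finset.sum_congr rfl (fun u _ => this u), Finset.sum_const, Finset.card_univ, nsmul_eq_mul,
      ← Nat.card_eq_fintype_card, ← mul_assoc, inv_mul_cancel₀ hPc, one_mul]
  rw [h3] at h1
  have h4 := Cfsg.Agent.Lib.Helper81.irr_one_ne_zero θ.2
  have h5 := Cfsg.Agent.Lib.Helper81.irr_one_ne_zero θ'.2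
  exact (mul_ne_zero (mul_ne_zero hPc (mul_ne_zero h5 h4)) h2) h1.symm

end Cfsg.Agent.Lib.Helper20
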