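import Cfsg.Agent.Lib.Helper20.PCBlock2
import Cfsg.Agent.Lib.Helper20.CharCount

set_option autoImplicit false
set_option linter.unusedSectionVars false
set_option linter.style.haveILetI false

/-!
# Blocks of `G = P C_G(P)` with defect group `P` (Navarro 9.12), part 3: the structure theorem
-/

namespace Cfsg.Agent.Lib.Helper20

open Cfsg Cfsg.Agent.Lib.Helper81 Cfsg.Agent.Lib.Helper19 Cfsg.Agent.Lib.Helper21
  Cfsg.Agent.Lib.Helper5
open scoped ComplexConjugate

variable {G : Type*} [Group G] [Fintype G] {p : ℕ} [Fact p.Prime] {M : Ideal AlgInt}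
  {P : Subgroup G} {B : Set (IrrCharacter G)}

theorem isPRegular_one : IsPRegular p (1 : G) := by
  have hp : p.Prime := Fact.out
  show ¬ p ∣ orderOf (1 : G)
  rw [orderOf_one]
  exact hp.one_lt.ne' ∘ Nat.dvd_one.1

theorem regular_eq_of_canonical [Fintype P] (hM : IsPModular p M) (hP : IsPGroup p P)
    (hG : P ⊔ Subgroup.centralizer (P : Set G) = ⊤) (hB : IsPBlock M B)
    (hD : IsDefectGroup p M B P) {θ : IrrCharacter G} (hθ : θ ∈ B)
    (hker : ∀ x ∈ P, (θ : G → ℂ) x = (θ : G → ℂ) 1) {χ : IrrCharacter G} (hχ : χ ∈ B) {y : G}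
    (hy : IsPRegular p y) :
    (χ : G → ℂ) y = (Nat.card P : ℂ) * mC p (χ : G → ℂ) (θ : G → ℂ) * (θ : G → ℂ) y := by
  classical
  haveI : Finite (IrrCharacter G) := finite_irrCharacter
  haveI : Fintype (IrrCharacter G) := Fintype.ofFinite _
  rw [regular_eq_sum_ker hP hG χ hy, Finset.sum_eq_single θ, if_pos hker, mul_assoc]
  · intro ψ _ hne
    split_ifs with hk
    · have h1 : ¬ SameBlock M (χ : G → ℂ) (ψ : G → ℂ) := by
        intro hs
        apply hne
        have h2 : ψ ∈ B := by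
          rw [isPBlock_eq_blockOf hM hB hχ]; exact hs
        exact canonical_unique hM hP hG hB hD hθ h2 hker hk
      rw [mC_eq_zero hM h1, zero_mul]
    · rfl
  · intro h; exact absurd (Finset.mem_univ _) h

theorem regular_mul_of_canonical [Fintype P] (hM : IsPModular p M) (hP : IsPGroup p P)
    (hG : P ⊔ Subgroup.centralizer (P : Set G) = ⊤) (hB : IsPBlock M B)
    (hD : IsDefectGroup p M B P) {θ : IrrCharacter G} (hθ : θ ∈ B)
    (hker : ∀ x ∈ P, (θ : G → ℂ) x = (θ : G → ℂ) 1) {χ : IrrCharacter G} (hχ : χ ∈ B) {y : G}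
    (hy : IsPRegular p y) :
    (χ : G → ℂ) y * (θ : G → ℂ) 1 = (χ : G → ℂ) 1 * (θ : G → ℂ) y := by
  rw [regular_eq_of_canonical hM hP hG hB hD hθ hker hχ hy,
    regular_eq_of_canonical hM hP hG hB hD hθ hker hχ isPRegular_one]
  ring

theorem card_mul_mC_canonical [Fintype P] (hM : IsPModular p M) (hP : IsPGroup p P)
    (hG : P ⊔ Subgroup.centralizer (P : Set G) = ⊤) (hB : IsPBlock M B)
    (hD : IsDefectGroup p M B P) {θ : IrrCharacter G} (hθ : θ ∈ B)
    (hker : ∀ x ∈ P, (θ : G → ℂ) x = (θ : G → ℂ) 1) :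
    (Nat.card P : ℂ) * mC p (θ : G → ℂ) (θ : G → ℂ) = 1 := by
  have h1 := regular_eq_of_canonical hM hP hG hB hD hθ hker hθ isPRegular_one
  have h10 := Cfsg.Agent.Lib.Helper81.irr_one_ne_zero θ.2
  exact (mul_right_cancel₀ h10 (by rw [one_mul]; exact h1)).symm

theorem card_mul_mC_mul [Fintype P] (hM : IsPModular p M) (hP : IsPGroup p P)
    (hG : P ⊔ Subgroup.centralizer (P : Set G) = ⊤) (hB : IsPBlock M B)
    (hD : IsDefectGroup p M B P) {θ : IrrCharacter G} (hθ : θ ∈ B)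
    (hker : ∀ x ∈ P, (θ : G → ℂ) x = (θ : G → ℂ) 1) {χ χ' : IrrCharacter G} (hχ : χ ∈ B)
    (hχ' : χ' ∈ B) :
    (Nat.card P : ℂ) * mC p (χ : G → ℂ) (χ' : G → ℂ) * ((θ : G → ℂ) 1 * (θ : G → ℂ) 1)
      = (χ : G → ℂ) 1 * (χ' : G → ℂ) 1 := by
  classical
  have h0 := card_mul_mC_canonical hM hP hG hB hD hθ hker
  have h1 : mC p (χ : G → ℂ) (χ' : G → ℂ) * ((θ : G → ℂ) 1 * (θ : G → ℂ) 1)
      = (χ : G → ℂ) 1 * (χ' : G → ℂ) 1 * mC p (θ : G → ℂ) (θ : G → ℂ) := by
    simp only [mC, classInner, pRegularPart_eq]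
    rw [mul_assoc, Finset.sum_mul, mul_left_comm ((χ : G → ℂ) 1 * (χ' : G → ℂ) 1),
      Finset.mul_sum ((Finset.univ : Finset G)) _ ((χ : G → ℂ) 1 * (χ' : G → ℂ) 1)]
    congr 1
    apply Finset.sum_congr rfl
    intro y _
    by_cases hy : IsPRegular p y
    · rw [if_pos hy, if_pos hy]
      have e1 := regular_mul_of_canonical hM hP hG hB hD hθ hker hχ hy
      have e2 := regular_mul_of_canonical hM hP hG hB hD hθ hker hχ' hy
      have e3 : conj ((χ' : G → ℂ) y) * (θ : G → ℂ) 1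
          = (χ' : G → ℂ) 1 * conj ((θ : G → ℂ) y) := by
        rw [← irr_one_conj θ, ← map_mul, e2, map_mul, irr_one_conj]
      calc (χ : G → ℂ) y * conj ((χ' : G → ℂ) y) * ((θ : G → ℂ) 1 * (θ : G → ℂ) 1)
          = ((χ : G → ℂ) y * (θ : G → ℂ) 1) * (conj ((χ' : G → ℂ) y) * (θ : G → ℂ) 1) := by ring
        _ = _ := by rw [e1, e3]; ring
    · rw [if_neg hy, if_neg hy]; simp
  rw [mul_assoc, h1, mul_left_comm, h0, mul_one]

/-- (IP2) -/
theorem classInner_res_of_canonical [Fintype P] (hM : IsPModular p M) (hP : IsPGroup p P)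
    (hG : P ⊔ Subgroup.centralizer (P : Set G) = ⊤) (hB : IsPBlock M B)
    (hD : IsDefectGroup p M B P) {θ : IrrCharacter G} (hθ : θ ∈ B)
    (hker : ∀ x ∈ P, (θ : G → ℂ) x = (θ : G → ℂ) 1) {χ χ' : IrrCharacter G} (hχ : χ ∈ B)
    (hχ' : χ' ∈ B) :
    classInner (fun u : P => (χ : G → ℂ) u) (fun u : P => (χ' : G → ℂ) u)
      = classInner (χ : G → ℂ) (χ' : G → ℂ) * ((θ : G → ℂ) 1 * (θ : G → ℂ) 1) := by
  have h1 := classInner_mul_of_sup hM hP hG hB hD (χ := χ) (χ' := χ') hχ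
  have h2 := card_mul_mC_mul hM hP hG hB hD hθ hker hχ hχ'
  have h3 := Cfsg.Agent.Lib.Helper81.irr_one_ne_zero χ.2
  have h4 := Cfsg.Agent.Lib.Helper81.irr_one_ne_zero χ'.2
  apply mul_right_cancel₀ (mul_ne_zero h3 h4)
  calc classInner (fun u : P => (χ : G → ℂ) u) (fun u : P => (χ' : G → ℂ) u)
        * ((χ : G → ℂ) 1 * (χ' : G → ℂ) 1)
      = classInner (fun u : P => (χ : G → ℂ) u) (fun u : P => (χ' : G → ℂ) u)
        * ((Nat.card P : ℂ) * mC p (χ : G → ℂ) (χ' : G → ℂ)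
          * ((θ : G → ℂ) 1 * (θ : G → ℂ) 1)) := by rw [h2]
    _ = ((Nat.card P : ℂ) * classInner (fun u : P => (χ : G → ℂ) u) (fun u : P => (χ' : G → ℂ) u)
        * mC p (χ : G → ℂ) (χ' : G → ℂ)) * ((θ : G → ℂ) 1 * (θ : G → ℂ) 1) := by ring
    _ = _ := by rw [← h1]; ring

/-- class functions of `P` are `G`-invariant. -/
theorem cjF_eq_of_sup (hG : P ⊔ Subgroup.centralizer (P : Set G) = ⊤) (hPn : P.Normal)
    {w : P → ℂ} (hw : IsClassFunction P w) (g : G) : cjF hPn w g = w := by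
  funext n
  rw [cjF_apply]
  obtain ⟨u, hu, c, hc, rfl⟩ := exists_mul_of_sup hG g
  rw [← hw n ⟨u, hu⟩]
  congr 1
  apply Subtype.ext
  show u * c * n * (u * c)⁻¹ = u * n * u⁻¹
  have e1 : c * n = n * c := (Subgroup.mem_centralizer_iff.1 hc n n.2).symm
  rw [mul_assoc u c, e1]
  group

/-- the restriction to `P` is homogeneous. -/
theorem constituent_unique_of_sup [Fintype P] (hG : P ⊔ Subgroup.centralizer (P : Set G) = ⊤)
    (χ : IrrCharacter G) {η η' : IrrCharacter P}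
    (h : classInner (fun u : P => (χ : G → ℂ) u) (η : P → ℂ) ≠ 0)
    (h' : classInner (fun u : P => (χ : G → ℂ) u) (η' : P → ℂ) ≠ 0) : η' = η := by
  classical
  have hPn := normal_of_sup_centralizer hG
  have hw := cjF_eq_of_sup hG hPn (blockCoeff_classFunction ({η} : Set (IrrCharacter P)))
  have h1 := omega_ext0_eq_of_constituent hPn χ η h hw
  have h2 := omega_ext0_eq_of_constituent hPn χ η' h' hw
  rw [h1, omega_blockCoeff, omega_blockCoeff, if_pos (Set.mem_singleton η)] at h2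
  by_contra hne
  rw [if_neg (fun hm => hne (Set.mem_singleton_iff.1 hm))] at h2
  exact one_ne_zero h2

theorem res_eq_smul_of_sup [Fintype P] (hG : P ⊔ Subgroup.centralizer (P : Set G) = ⊤)
    (χ : IrrCharacter G) {η : IrrCharacter P}
    (h : classInner (fun u : P => (χ : G → ℂ) u) (η : P → ℂ) ≠ 0) :
    (fun u : P => (χ : G → ℂ) u)
      = classInner (fun u : P => (χ : G → ℂ) u) (η : P → ℂ) • (η : P → ℂ) := by
  classical
  haveI : Finite (IrrCharacter P) := finite_irrCharacter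
  haveI : Fintype (IrrCharacter P) := Fintype.ofFinite _
  have hcl : IsClassFunction P (fun u : P => (χ : G → ℂ) u) :=
    fun g x => irr_classFunction χ g x
  conv_lhs => rw [eq_sum_classInner_smul hcl]
  rw [Finset.sum_eq_single η]
  · intro η' _ hne
    by_cases h' : classInner (fun u : P => (χ : G → ℂ) u) (η' : P → ℂ) = 0
    · rw [h', zero_smul]
    · exact absurd (constituent_unique_of_sup hG χ h h') hne
  · intro h; exact absurd (Finset.mem_univ _) h

/-- (T2) -/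
theorem exists_res_eq [Fintype P] (hM : IsPModular p M) (hP : IsPGroup p P)
    (hG : P ⊔ Subgroup.centralizer (P : Set G) = ⊤) (hB : IsPBlock M B)
    (hD : IsDefectGroup p M B P) {θ : IrrCharacter G} (hθ : θ ∈ B)
    (hker : ∀ x ∈ P, (θ : G → ℂ) x = (θ : G → ℂ) 1) {χ : IrrCharacter G} (hχ : χ ∈ B)
    {η : IrrCharacter P} (h : classInner (fun u : P => (χ : G → ℂ) u) (η : P → ℂ) ≠ 0) :
    ∀ u : P, (χ : G → ℂ) u = (θ : G → ℂ) 1 * (η : P → ℂ) u := by
  have h1 := res_eq_smul_of_sup hG χ h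
  obtain ⟨m, hm⟩ := isCharacter_classInner_nat
    (isCharacter_restrict (isCharacter_of_isIrrCharacter χ.2) P) η.2
  have h2 := classInner_res_of_canonical hM hP hG hB hD hθ hker hχ hχ
  rw [classInner_irr_self χ.2, one_mul] at h2
  have h3 : classInner (fun u : P => (χ : G → ℂ) u) (fun u : P => (χ : G → ℂ) u)
      = (m : ℂ) * (m : ℂ) := by
    conv_lhs => rw [h1]
    rw [classInner_smul_left, classInner_smul_right, classInner_irr_self η.2, hm]
    simp
  rw [h3, irr_one_eq θ] at h2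
  have h4 : m = charDegree (θ : G → ℂ) := by
    have : m * m = charDegree (θ : G → ℂ) * charDegree (θ : G → ℂ) := by exact_mod_cast h2
    exact Nat.mul_self_inj.1 this
  intro u
  have h5 := congrFun h1 u
  rw [hm, h4, ← irr_one_eq θ] at h5
  exact h5

/-- (T3) -/
theorem apply_mul_of_canonical [Fintype P] (hM : IsPModular p M) (hP : IsPGroup p P)
    (hG : P ⊔ Subgroup.centralizer (P : Set G) = ⊤) (hB : IsPBlock M B)
    (hD : IsDefectGroup p M B P) {θ : IrrCharacter G} (hθ : θ ∈ B)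
    (hker : ∀ x ∈ P, (θ : G → ℂ) x = (θ : G → ℂ) 1) {χ : IrrCharacter G} (hχ : χ ∈ B)
    {η : IrrCharacter P} (h : ∀ u : P, (χ : G → ℂ) u = (θ : G → ℂ) 1 * (η : P → ℂ) u)
    (u : P) {y : G} (hy : IsPRegular p y) :
    (χ : G → ℂ) ((u : G) * y) = (η : P → ℂ) u * (θ : G → ℂ) y := by
  have hp : p.Prime := Fact.out
  have h1 := char_mul_of_sup hG χ.2 u.2 (mem_centralizer_of_regular hp hP hG hy)
  have h2 := regular_mul_of_canonical hM hP hG hB hD hθ hker hχ hy
  have h3 := Cfsg.Agent.Lib.Helper81.irr_one_ne_zero χ.2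
  apply mul_right_cancel₀ h3
  rw [h1, h u]
  calc (θ : G → ℂ) 1 * (η : P → ℂ) u * (χ : G → ℂ) y
      = (η : P → ℂ) u * ((χ : G → ℂ) y * (θ : G → ℂ) 1) := by ring
    _ = _ := by rw [h2]; ring

/-- surjectivity. -/
theorem exists_over_of_canonical [Fintype P] (hM : IsPModular p M) (hP : IsPGroup p P)
    (hB : IsPBlock M B) {θ : IrrCharacter G} (hθ : θ ∈ B) (η : IrrCharacter P) :
    ∃ χ ∈ B, classInner (fun u : P => (χ : G → ℂ) u) (η : P → ℂ) ≠ 0 := by
  classical
  haveI : Finite (IrrCharacter G) := finite_irrCharacter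
  haveI : Fintype (IrrCharacter G) := Fintype.ofFinite _
  have hp : p.Prime := Fact.out
  have hPc : (Nat.card P : ℂ) ≠ 0 := Cfsg.Agent.Lib.Helper19.card_ne_zero_complex P
  have h1 : classInner (fun u : P => pRegularPart p (θ : G → ℂ) u) (η : P → ℂ)
      = (Nat.card P : ℂ)⁻¹ * ((θ : G → ℂ) 1 * (η : P → ℂ) 1) := by
    simp only [classInner]
    congr 1
    rw [Finset.sum_eq_single (1 : P)]
    · rw [pRegularPart_eq]
      simp only [Subgroup.coe_one]
      rw [if_pos isPRegular_one, irr_one_conj]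
    · intro u _ hu
      rw [pRegularPart_eq]
      show (if IsPRegular p (u : G) then _ else _) * _ = _
      rw [if_neg, zero_mul]
      intro hreg
      apply hu
      obtain ⟨k, hk⟩ := hP u
      have h2 : (u : G) ^ p ^ k = 1 := by
        have := congrArg Subtype.val hk
        simpa using this
      obtain ⟨j, -, hj⟩ := (Nat.dvd_prime_pow hp).1 (orderOf_dvd_of_pow_eq_one h2)
      have hj0 : j = 0 := by
        by_contra hj0
        apply hreg
        rw [hj]
        exact dvd_pow_self p hj0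
      rw [hj0, pow_zero, orderOf_eq_one_iff] at hj
      exact Subtype.ext hj
    · intro h; exact absurd (Finset.mem_univ _) h
  have h2 : (fun u : P => pRegularPart p (θ : G → ℂ) u)
      = ∑ ψ : IrrCharacter G, mC p (θ : G → ℂ) (ψ : G → ℂ) • (fun u : P => (ψ : G → ℂ) u) := by
    funext u
    rw [pRegularPart_eq_sum_mC]
    simp only [Finset.sum_apply, Pi.smul_apply]
  rw [h2, classInner_sum_left] at h1
  have h3 : (Nat.card P : ℂ)⁻¹ * ((θ : G → ℂ) 1 * (η : P → ℂ) 1) ≠ 0 :=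
    mul_ne_zero (inv_ne_zero hPc) (mul_ne_zero (Cfsg.Agent.Lib.Helper81.irr_one_ne_zero θ.2)
      (Cfsg.Agent.Lib.Helper81.irr_one_ne_zero η.2))
  rw [← h1] at h3
  obtain ⟨ψ, -, hψ⟩ := Finset.exists_ne_zero_of_sum_ne_zero h3
  rw [classInner_smul_left] at hψ
  refine ⟨ψ, ?_, right_ne_zero_of_mul hψ⟩
  by_contra hn
  apply left_ne_zero_of_mul hψ
  apply mC_eq_zero hM
  intro hs
  apply hn
  rw [isPBlock_eq_blockOf hM hB hθ]
  exact hs

/-- injectivity -/
theorem eq_of_res_eq [Fintype P] (hM : IsPModular p M) (hP : IsPGroup p P)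
    (hG : P ⊔ Subgroup.centralizer (P : Set G) = ⊤) (hB : IsPBlock M B)
    (hD : IsDefectGroup p M B P) {θ : IrrCharacter G} (hθ : θ ∈ B)
    (hker : ∀ x ∈ P, (θ : G → ℂ) x = (θ : G → ℂ) 1) {χ χ' : IrrCharacter G} (hχ : χ ∈ B)
    (hχ' : χ' ∈ B) (h : ∀ u : P, (χ : G → ℂ) u = (χ' : G → ℂ) u) : χ = χ' := by
  by_contra hne
  have h1 := classInner_res_of_canonical hM hP hG hB hD hθ hker hχ hχ'
  have h2 := classInner_res_of_canonical hM hP hG hB hD hθ hker hχ hχ
  rw [classInner_irr_ne χ.2 χ'.2 (fun e => hne (Subtype.ext e)), zero_mul] at h1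
  rw [classInner_irr_self χ.2, one_mul] at h2
  have h3 : (fun u : P => (χ : G → ℂ) u) = (fun u : P => (χ' : G → ℂ) u) := funext h
  rw [← h3, h2] at h1
  have h4 := Cfsg.Agent.Lib.Helper81.irr_one_ne_zero θ.2
  exact mul_ne_zero h4 h4 h1

/-- `|B| = k(P)`. -/
theorem card_block_of_sup [Fintype P] (hM : IsPModular p M) (hP : IsPGroup p P)
    (hG : P ⊔ Subgroup.centralizer (P : Set G) = ⊤) (hB : IsPBlock M B)
    (hD : IsDefectGroup p M B P) {θ : IrrCharacter G} (hθ : θ ∈ B)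
    (hker : ∀ x ∈ P, (θ : G → ℂ) x = (θ : G → ℂ) 1) :
    Nat.card B = Nat.card (ConjClasses P) := by
  classical
  rw [← card_irrCharacter]
  have h10 := Cfsg.Agent.Lib.Helper81.irr_one_ne_zero θ.2
  have hex : ∀ χ : B, ∃ η : IrrCharacter P,
      classInner (fun u : P => ((χ : IrrCharacter G) : G → ℂ) u) (η : P → ℂ) ≠ 0 :=
    fun χ => exists_constituent_res P χ
  choose f hf using hex
  apply Nat.card_congr
  refine Equiv.ofBijective f ⟨?_, ?_⟩
  · intro χ χ' e
    apply Subtype.ext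
    apply eq_of_res_eq hM hP hG hB hD hθ hker χ.2 χ'.2
    intro u
    rw [exists_res_eq hM hP hG hB hD hθ hker χ.2 (hf χ) u,
      exists_res_eq hM hP hG hB hD hθ hker χ'.2 (hf χ') u, e]
  · intro η
    obtain ⟨χ, hχ, hc⟩ := exists_over_of_canonical hM hP hB hθ η
    exact ⟨⟨χ, hχ⟩, constituent_unique_of_sup hG χ hc (hf ⟨χ, hχ⟩)⟩

end Cfsg.Agent.Lib.Helper20
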